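import Cfsg.Agent.Coset.Fi23Out.S6
import Cfsg.Agent.Coset.Fi23.TopData

/-! Checks on one step. -/

set_option autoImplicit false
set_option maxRecDepth 100000
set_option Elab.async false

namespace CfsgLib.Coset.Fi23Out

open CfsgLib.Coset CfsgLib.Coset.TransOut

theorem patt6 : pattOK Fi23.Top.Tb pre6 8006 = true := by decide +kernel

theorem cand6 : checkCand Fi23.Top.Tb 31671 15 pre6 12 P6 Inv6 = true := by decide +kernel

theorem orb6 : checkOrbit Fi23.Top.Tb 8006 12 4 gens6 P6 Inv6 = true := by decide +kernel

theorem fix6 : checkFix Fi23.Top.Tb (pre6.map fun e => e.2.1) gens6 = true := by decide +kernel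

theorem lett6 : checkLetters 10 gens6 = true := by decide +kernel

end CfsgLib.Coset.Fi23Out
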