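import Cfsg.Agent.Coset.Fi23Out.S8
import Cfsg.Agent.Coset.Fi23.TopData

/-! Checks on one step. -/

set_option autoImplicit false
set_option maxRecDepth 100000
set_option Elab.async false

namespace CfsgLib.Coset.Fi23Out

open CfsgLib.Coset CfsgLib.Coset.TransOut

theorem patt8 : pattOK Fi23.Top.Tb pre8 7999 = true := by decide +kernel

theorem cand8 : checkCand Fi23.Top.Tb 31671 15 pre8 2 P8 Inv8 = true := by decide +kernel

theorem orb8 : checkOrbit Fi23.Top.Tb 7999 2 1 gens8 P8 Inv8 = true := by decide +kernel

theorem fix8 : checkFix Fi23.Top.Tb (pre8.map fun e => e.2.1) gens8 = true := by decide +kernel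

theorem lett8 : checkLetters 10 gens8 = true := by decide +kernel

end CfsgLib.Coset.Fi23Out
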