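import Cfsg.Agent.Coset.Fi23Out.Data
import Cfsg.Agent.Coset.Fi23.ThreeTransp

/-! Checks on the centraliser of an element of prime order. -/

set_option autoImplicit false
set_option maxRecDepth 100000
set_option Elab.async false

namespace CfsgLib.Coset.Fi23Out

open CfsgLib.Coset.TransOut

theorem fixU_ok : checkFixU Fi23.Top.Tb uw 31671 15 fU = true := by decide +kernel

theorem cycles_ok : checkCycles Fi23.Top.Tb Fi23.zw uw 31671 15 270 9 13 C CI = true := by decide +kernel

theorem seps_ok : checkSeps Fi23.Top.Tb Fi23.Top.Par Fi23.zw 10 31671 15 270 9 C 13 2 cert = true := by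
  decide +kernel

theorem dag_ok : checkDag Fi23.Top.Tb Fi23.Top.Par Fi23.zw 10 31671 dag (0 :: (List.range 13).map (cy C 13 2))
    targets = true := by decide +kernel

end CfsgLib.Coset.Fi23Out
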