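import Cfsg.Agent.Coset.Fi23Out.ChkU
import Cfsg.Agent.Coset.Fi23Out.Chk0
import Cfsg.Agent.Coset.Fi23Out.Chk1
import Cfsg.Agent.Coset.Fi23Out.Chk2
import Cfsg.Agent.Coset.Fi23Out.Chk3
import Cfsg.Agent.Coset.Fi23Out.Chk4
import Cfsg.Agent.Coset.Fi23Out.Chk5
import Cfsg.Agent.Coset.Fi23Out.Chk6
import Cfsg.Agent.Coset.Fi23Out.Chk7
import Cfsg.Agent.Coset.Fi23Out.Chk8
import Cfsg.Agent.Coset.Fi23Out.Chk9
import Cfsg.Agent.Coset.Fi23.Cover

/-! Automorphisms preserve the class of 3-transpositions. -/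

set_option autoImplicit false
set_option maxRecDepth 100000
set_option Elab.async false

namespace CfsgLib.Coset.Fi23Out

open CfsgLib.Coset CfsgLib.Coset.TransOut Fi23

/-- The base point. -/
def o : Fin 31671 := ⟨0, by decide⟩

theorem cls : Class Lg ρ Top.Tb zw o where
  hm := matches_ρ
  inj := card_and_injective.2
  ho := rfl
  hz := by decide +kernel
  sq := sq_all
  order_t := orderOf_t
  cent := centralizer_t.trans index_and_eq.2
  trans := transitive

/-- The point of a generator. -/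
def pt (l : Nat) (h : pts.getD l 0 < 31671 := by decide +kernel) : Fin 31671 := ⟨pts.getD l 0, h⟩

theorem pts_check : (List.range 10).all (fun l =>
    Nat.ble (Nat.add (pts.getD l 0) 1) 31671 && good Top.Tb Top.Par 10 (pts.getD l 0) &&
    checkLetters 10 [tw Top.Par zw (pts.getD l 0)] &&
    allList (fun b => Nat.beq (follow (tget Top.Tb) b [l])
      (follow (tget Top.Tb) b (tw Top.Par zw (pts.getD l 0)))) ([0, 1, 224, 1640, 2])) = true := by
  decide +kernel

theorem letters_single {l : Nat} (h : l < 10) : checkLetters 10 [[l]] = true := by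
  simp [checkLetters, allList_iff, Nat.ble_eq]
  omega

theorem fl_eq_dT {l : Nat} (hl : l < 10) :
    ∃ h : pts.getD l 0 < 31671, fl Lg l = cls.dT ⟨pts.getD l 0, h⟩ := by
  have h := List.all_eq_true.mp pts_check l (List.mem_range.mpr hl)
  simp only [Bool.and_eq_true] at h
  obtain ⟨⟨⟨h1, h2⟩, h3⟩, h4⟩ := h
  refine ⟨Nat.ble_eq.mp h1, ?_⟩
  rw [cls.dT_eq_ev _ (len_Lg ▸ h2), ← ev_eq (letters_single hl) h3 h4, ev_cons, ev_nil,
    mul_one]

theorem u_facts : checkLetters 10 [uw] = true ∧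
    checkLetters 10 [(List.replicate 13 uw).flatten] = true ∧
    checkLetters 10 [uw ++ zw] = true ∧ checkLetters 10 [zw ++ uw] = true ∧
    allList (fun b => Nat.beq (follow (tget Top.Tb) b (List.replicate 13 uw).flatten)
      (follow (tget Top.Tb) b [])) ([0, 1, 224, 1640, 2]) = true ∧
    allList (fun b => Nat.beq (follow (tget Top.Tb) b (uw ++ zw))
      (follow (tget Top.Tb) b (zw ++ uw))) ([0, 1, 224, 1640, 2]) = true ∧
    Nat.beq (follow (tget Top.Tb) 1 uw) 1 = false := by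
  decide +kernel

theorem uw_lt : ∀ l ∈ uw, l < (Lg).length := letters_lt (len_Lg ▸ u_facts.1) uw (by simp)

theorem u_pow : ev Lg uw ^ 13 = 1 := by
  rw [pow_ev, ← ev_nil (L := Lg)]
  exact ev_eq u_facts.2.1 (by decide +kernel) u_facts.2.2.2.2.1

theorem u_comm : ev Lg uw * t = t * ev Lg uw := by
  rw [t, ← ev_append, ← ev_append]
  exact ev_eq u_facts.2.2.1 u_facts.2.2.2.1 u_facts.2.2.2.2.2.1

theorem orderOf_u : orderOf (ev Lg uw) = 13 := by
  have : Fact (Nat.Prime 13) := ⟨by norm_num⟩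
  refine orderOf_eq_prime u_pow fun h => ?_
  have h1 := matches_ρ.follow_eq uw (1 : Fin 31671) uw_lt
  simp only [h, map_one, inv_one, Equiv.Perm.coe_one, id_eq] at h1
  have h2 := u_facts.2.2.2.2.2.2
  rw [show ((1 : Fin 31671) : Nat) = 1 from rfl] at h1
  rw [← h1] at h2
  simp at h2

theorem let_check :
    [0, 1, 2, 3, 4, 5, 6, 8, 9].all (fun l => targets.contains (pts.getD l 0)) = true := by
  decide +kernel

theorem gen_center {g : Cfsg.Spor.Fi23} (hgo : ρ g o = o)
    (hg : ∀ t ∈ targets, ∀ h : t < 31671, ρ g ⟨t, h⟩ = ⟨t, h⟩) : g = 1 ∨ g = t := by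
  have hletter : ∀ l ∈ [0, 1, 2, 3, 4, 5, 6, 8, 9], Commute g (fl Lg l) := by
    intro l hl
    have hl10 : l < 10 := by
      simp only [List.mem_cons, List.not_mem_nil, or_false] at hl
      omega
    obtain ⟨h, e⟩ := fl_eq_dT hl10
    show g * fl Lg l = fl Lg l * g
    rw [e, cls.comm_dT_iff]
    exact hg _ (by simpa using List.all_eq_true.mp let_check l hl) h
  have hH : ∀ x ∈ H, g * x = x * g := by
    intro x hx
    have : H ≤ Subgroup.centralizer ({g} : Set Cfsg.Spor.Fi23) := by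
      refine (Subgroup.closure_le _).mpr ?_
      rintro _ ⟨w, hw, rfl⟩
      rw [SetLike.mem_coe, Subgroup.mem_centralizer_singleton_iff]
      simp only [Top.subs, Set.mem_setOf_eq, List.mem_cons, List.not_mem_nil, or_false] at hw
      rcases hw with rfl | rfl | rfl | rfl | rfl | rfl | rfl | rfl | rfl
      all_goals (rw [ev_cons, ev_nil, mul_one]; exact (hletter _ (by simp)).symm.eq)
    exact (Subgroup.mem_centralizer_singleton_iff.mp (this hx)).symm
  have hgH : g ∈ H := by
    rw [index_and_eq.2]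
    exact hgo
  have hc : (⟨g, hgH⟩ : H) ∈ Subgroup.center H :=
    Subgroup.mem_center_iff.mpr fun x => Subtype.ext (hH x.1 x.2).symm
  rw [center_eq] at hc
  obtain ⟨i, hi⟩ := Subgroup.mem_zpowers_iff.mp hc
  have ht : (z : Cfsg.Spor.Fi23) ^ i = g := by
    rw [← Subgroup.coe_zpow, hi]
  rw [coe_z] at ht
  have h2 : t ^ (2 : ℤ) = 1 := by
    rw [zpow_ofNat, ← orderOf_t, pow_orderOf_eq_one]
  rcases Int.even_or_odd i with ⟨j, rfl⟩ | ⟨j, rfl⟩
  · left
    rw [← ht, ← two_mul, zpow_mul, show ev Lg zw = t from rfl, h2, one_zpow]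
  · right
    rw [← ht, zpow_add, zpow_mul, show ev Lg zw = t from rfl, h2, one_zpow, one_mul, zpow_one]

theorem fix_three {g : Equiv.Perm (Fin 31671)} (hg : g * g = 1)
    (hF : ∀ f ∈ fU, ∀ h : f < 31671, (g ⟨f, h⟩).val ∈ fU) :
    ∃ f ∈ fU, ∃ h : f < 31671, g ⟨f, h⟩ = ⟨f, h⟩ := by
  have hi : ∀ i, g (g i) = i := fun i => by rw [← Equiv.Perm.mul_apply, hg, Equiv.Perm.one_apply]
  have h0 := hF 0 (by simp [fU]) (by decide)
  have h2 := hF 2 (by simp [fU]) (by decide)
  have h3 := hF 6531 (by simp [fU]) (by decide)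
  simp only [fU, List.mem_cons, List.not_mem_nil, or_false] at h0 h2 h3 ⊢
  by_contra hne
  push Not at hne
  have n0 : (g ⟨0, by decide⟩).val ≠ 0 := fun h => hne 0 (by tauto) (by decide) (Fin.ext h)
  have n2 : (g ⟨2, by decide⟩).val ≠ 2 := fun h => hne 2 (by tauto) (by decide) (Fin.ext h)
  have n3 : (g ⟨6531, by decide⟩).val ≠ 6531 := fun h => hne 6531 (by tauto) (by decide) (Fin.ext h)
  have step : ∀ (a b : Nat) (ha : a < 31671) (hb : b < 31671), (g ⟨a, ha⟩).val = b →
      (g ⟨b, hb⟩).val = a := fun a b ha hb h => by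
    rw [show (⟨b, hb⟩ : Fin 31671) = g ⟨a, ha⟩ from Fin.ext h.symm, hi]
  rcases h0 with h | h | h
  · exact n0 h
  · have := step 0 2 _ (by decide) h
    rcases h3 with k | k | k
    · have := step 6531 0 _ (by decide) k; omega
    · have := step 6531 2 _ (by decide) k; omega
    · exact n3 k
  · have := step 0 6531 _ (by decide) h
    rcases h2 with k | k | k
    · have := step 2 0 _ (by decide) k; omega
    · exact n2 k
    · have := step 2 6531 _ (by decide) k; omega

theorem mv_check : checkLetters 10 [mv0, mv1] = true ∧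
    Nat.beq (follow (tget Top.Tb) 2 mv0) 0 = true ∧ Nat.beq (follow (tget Top.Tb) 6531 mv1) 0 = true ∧
    checkLetters 10 [uw ++ mv0] = true ∧ checkLetters 10 [mv0 ++ uw] = true ∧
    checkLetters 10 [uw ++ mv1] = true ∧ checkLetters 10 [mv1 ++ uw] = true ∧
    allList (fun b => Nat.beq (follow (tget Top.Tb) b (uw ++ mv0))
      (follow (tget Top.Tb) b (mv0 ++ uw))) [0, 1, 224, 1640, 2] = true ∧
    allList (fun b => Nat.beq (follow (tget Top.Tb) b (uw ++ mv1))
      (follow (tget Top.Tb) b (mv1 ++ uw))) [0, 1, 224, 1640, 2] = true ∧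
    fU.all (fun f => Nat.beq (follow (tget Top.Tb) f uw) f) = true := by
  decide +kernel

theorem card_sq : ¬ 13 ^ 2 ∣ Nat.card Cfsg.Spor.Fi23 := by
  rw [card_and_injective.1]; norm_num

/-- Every automorphism preserves the class. -/
theorem isConj_aut (φ : MulAut Cfsg.Spor.Fi23) : IsConj (t) (φ (t)) := by
  have := card_le.1
  have : Fact (Nat.Prime 13) := ⟨by norm_num⟩
  obtain ⟨g, hg⟩ := cls.exists_commute orderOf_u card_sq u_comm φ
  have hfix : ∀ {x : Cfsg.Spor.Fi23}, x * x = 1 → x ≠ 1 → ρ x o = o →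
      x * ev Lg uw = ev Lg uw * x → x = t :=
    fun h1 h2 h3 h4 => cls.eq_t_of_fix (k := 10) (pr := 13) len_Lg.symm uw_lt ⟨6, rfl⟩ u_pow
      (fun a ha h => Nat.eq_zero_of_dvd_of_lt (orderOf_u ▸ orderOf_dvd_of_pow_eq_one h) ha)
      u_comm cycles_ok seps_ok dag_ok (by decide) (by decide +kernel) (by decide +kernel)
      (fun y hy hy' => gen_center hy hy') h1 h2 h3 h4
  obtain ⟨m0, m1, m2, m3, m4, m5, m6, m7, m8, m9⟩ := mv_check
  have ht : φ (t) * φ (t) = 1 := by
    rw [← map_mul, ← pow_two, ← orderOf_t, pow_orderOf_eq_one, map_one]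
  have ht1 : φ (t) ≠ 1 := by
    intro h
    have h2 : orderOf (t) = 2 := cls.order_t
    rw [← map_one φ] at h
    rw [φ.injective h, orderOf_one] at h2
    exact absurd h2 (by norm_num)
  have hc := cls.isConj_of_commute uw_lt fixU_ok
    (fun x hx hF => fix_three (g := ρ x) (by rw [← map_mul, hx, map_one]) hF)
    (fun f hf h => by
      simp only [fU, List.mem_cons, List.not_mem_nil, or_false] at hf
      rcases hf with rfl | rfl | rfl
      · exact ⟨1, by simp; rfl, by simp⟩
      · refine ⟨(ev Lg mv0)⁻¹, ?_, ?_⟩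
        · rw [map_inv]
          exact Fin.ext ((matches_ρ.follow_eq mv0 _ (letters_lt m0 mv0 (by simp))).trans
            (Nat.eq_of_beq_eq_true m1))
        · refine (Commute.inv_left ?_).eq
          show ev Lg mv0 * ev Lg uw = ev Lg uw * ev Lg mv0
          rw [← ev_append, ← ev_append]
          exact (ev_eq m3 m4 m7).symm
      · refine ⟨(ev Lg mv1)⁻¹, ?_, ?_⟩
        · rw [map_inv]
          exact Fin.ext ((matches_ρ.follow_eq mv1 _ (letters_lt m0 mv1 (by simp))).trans
            (Nat.eq_of_beq_eq_true m2))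
        · refine (Commute.inv_left ?_).eq
          show ev Lg mv1 * ev Lg uw = ev Lg uw * ev Lg mv1
          rw [← ev_append, ← ev_append]
          exact (ev_eq m5 m6 m8).symm)
    (fun f hf h => (matches_ρ.fix_iff uw_lt).mpr
      (Nat.eq_of_beq_eq_true (List.all_eq_true.mp m9 f hf)))
    hfix (x := g * φ (t) * g⁻¹)
    (by calc g * φ (t) * g⁻¹ * (g * φ (t) * g⁻¹)
            = g * (φ (t) * φ (t)) * g⁻¹ := by group
          _ = 1 := by rw [ht]; group)
    (fun h => ht1 (by
      calc φ (t) = g⁻¹ * (g * φ (t) * g⁻¹) * g := by group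
        _ = 1 := by rw [h]; group)) hg
  exact hc.trans (isConj_iff.mpr ⟨g⁻¹, by group⟩)

theorem isConj_fl (φ : MulAut Cfsg.Spor.Fi23) {l : Nat} (hl : l < 10) :
    IsConj (t) (φ (fl Lg l)) := by
  obtain ⟨h, e⟩ := fl_eq_dT hl
  exact cls.isConj_image (isConj_aut φ) (e ▸ cls.isConj_dT _)

end CfsgLib.Coset.Fi23Out
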