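import Cfsg.Agent.Coset.Fi23Out.Main

/-! Every automorphism is inner. -/

set_option autoImplicit false
set_option maxRecDepth 100000
set_option Elab.async false

namespace CfsgLib.Coset.Fi23Out

open CfsgLib.Coset CfsgLib.Coset.TransOut Fi23

theorem pre_spec {pre : List (Nat × Nat × Bool)}
    (h : (pre.all fun e => Nat.ble (Nat.add e.1 1) 10 && Nat.beq (pts.getD e.1 0) e.2.1) = true) :
    (∀ e ∈ pre, e.1 < (Lg).length) ∧
      ∀ e ∈ pre, ∃ h : e.2.1 < 31671, fl Lg e.1 = cls.dT ⟨e.2.1, h⟩ := by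
  constructor
  · intro e he
    have := List.all_eq_true.mp h e he
    rw [Bool.and_eq_true] at this
    rw [len_Lg]; exact Nat.ble_eq.mp this.1
  · intro e he
    have h' := List.all_eq_true.mp h e he
    rw [Bool.and_eq_true] at h'
    obtain ⟨hh, ee⟩ := fl_eq_dT (Nat.ble_eq.mp h'.1)
    have e2 : pts.getD e.1 0 = e.2.1 := Nat.eq_of_beq_eq_true h'.2
    refine ⟨e2 ▸ hh, ee.trans (congrArg cls.dT (Fin.ext e2))⟩

theorem preB_lt {pre : List (Nat × Nat × Bool)}
    (h : (pre.all fun e => Nat.ble (Nat.add e.1 1) 10 && Nat.beq (pts.getD e.1 0) e.2.1) = true) :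
    ∀ e ∈ pre, e.2.1 < 31671 := fun e he => ((pre_spec h).2 e he).1

/-- The base of a step. -/
def preBase (pre : List (Nat × Nat × Bool)) (h : ∀ e ∈ pre, e.2.1 < 31671) : List (Fin 31671) :=
  pre.attach.map fun e => ⟨e.1.2.1, h e.1 e.2⟩

theorem preBase_val (pre : List (Nat × Nat × Bool)) (h : ∀ e ∈ pre, e.2.1 < 31671) :
    (preBase pre h).map Fin.val = pre.map fun e => e.2.1 := by
  rw [preBase, List.map_map]
  exact List.attach_map_val (f := fun e : Nat × Nat × Bool => e.2.1)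

/-- The generators in the order of the steps. -/
def od : List Nat := [1, 5, 6, 0, 9, 4, 7, 2, 8, 3]

/-- An automorphism can be made to fix the first generators. -/
def Norm (k : Nat) : Prop :=
  ∀ φ : MulAut Cfsg.Spor.Fi23, ∃ g : Cfsg.Spor.Fi23, ∀ l ∈ od.take k, g * φ (fl Lg l) * g⁻¹ = fl Lg l

theorem norm_succ {k l : Nat} {pre : List (Nat × Nat × Bool)} {p : Fin 31671} {m dm : Nat}
    {gens : List (List Nat)} {P Inv : Nat → Nat}
    (hN : Norm k) (hk : od.take (k + 1) = pre.map Prod.fst ++ [l]) (hk' : od.take k = pre.map Prod.fst)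
    (hpre : (pre.all fun e => Nat.ble (Nat.add e.1 1) 10 && Nat.beq (pts.getD e.1 0) e.2.1) = true)
    (hl : l < 10) (hp : pts.getD l 0 = p.val)
    (hpat : pattOK Top.Tb pre p.val = true) (hgl : checkLetters 10 gens = true)
    (hgf : checkFix Top.Tb (pre.map fun e => e.2.1) gens = true)
    (horb : checkOrbit Top.Tb p m dm gens P Inv = true)
    (hcand : checkCand Top.Tb 31671 15 pre m P Inv = true) : Norm (k + 1) := by
  intro φ
  have := card_le.1
  obtain ⟨g, hg⟩ := hN φ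
  obtain ⟨hlt, hd⟩ := pre_spec hpre
  let ψ : MulAut Cfsg.Spor.Fi23 := MulAut.conj g * φ
  have hψ : ∀ x, ψ x = g * φ x * g⁻¹ := fun x => rfl
  obtain ⟨hh, e⟩ := fl_eq_dT hl
  have hpd : fl Lg l = cls.dT p := e.trans (congrArg cls.dT (Fin.ext hp))
  have hb := preBase_val pre (preB_lt hpre)
  obtain ⟨g', hg', hgl'⟩ := cls.step hlt hd hb hpd hpat (len_Lg ▸ hgl) (hb.symm ▸ hgf) horb hcand ψ
    (fun e he => by rw [hψ]; exact hg e.1 (hk' ▸ List.mem_map.mpr ⟨e, he, rfl⟩))
    (isConj_fl ψ hl)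
  refine ⟨g' * g, fun x hx => ?_⟩
  have hx' : x ∈ pre.map Prod.fst ++ [l] := hk ▸ hx
  have e2 : g' * g * φ (fl Lg x) * (g' * g)⁻¹ = g' * ψ (fl Lg x) * g'⁻¹ := by rw [hψ]; group
  rw [e2]
  rcases List.mem_append.mp hx' with h | h
  · obtain ⟨e', he', rfl⟩ := List.mem_map.mp h
    exact hg' e' he'
  · rw [List.mem_singleton.mp h]; exact hgl'

theorem norm10 : Norm 10 := by
  have h0 : Norm 0 := fun φ => ⟨1, by simp⟩
  have h1 := norm_succ (l := 1) (pre := pre0) (p := ⟨8004, by decide⟩) h0 rfl rfl (by decide) (by decide)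
    rfl patt0 lett0 fix0 orb0 cand0
  have h2 := norm_succ (l := 5) (pre := pre1) (p := ⟨8002, by decide⟩) h1 rfl rfl (by decide) (by decide)
    rfl patt1 lett1 fix1 orb1 cand1
  have h3 := norm_succ (l := 6) (pre := pre2) (p := ⟨8005, by decide⟩) h2 rfl rfl (by decide) (by decide)
    rfl patt2 lett2 fix2 orb2 cand2
  have h4 := norm_succ (l := 0) (pre := pre3) (p := ⟨11589, by decide⟩) h3 rfl rfl (by decide) (by decide)
    rfl patt3 lett3 fix3 orb3 cand3
  have h5 := norm_succ (l := 9) (pre := pre4) (p := ⟨8007, by decide⟩) h4 rfl rfl (by decide) (by decide)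
    rfl patt4 lett4 fix4 orb4 cand4
  have h6 := norm_succ (l := 4) (pre := pre5) (p := ⟨8001, by decide⟩) h5 rfl rfl (by decide) (by decide)
    rfl patt5 lett5 fix5 orb5 cand5
  have h7 := norm_succ (l := 7) (pre := pre6) (p := ⟨8006, by decide⟩) h6 rfl rfl (by decide) (by decide)
    rfl patt6 lett6 fix6 orb6 cand6
  have h8 := norm_succ (l := 2) (pre := pre7) (p := ⟨8003, by decide⟩) h7 rfl rfl (by decide) (by decide)
    rfl patt7 lett7 fix7 orb7 cand7
  have h9 := norm_succ (l := 8) (pre := pre8) (p := ⟨7999, by decide⟩) h8 rfl rfl (by decide) (by decide)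
    rfl patt8 lett8 fix8 orb8 cand8
  exact norm_succ (l := 3) (pre := pre9) (p := ⟨8000, by decide⟩) h9 rfl rfl (by decide) (by decide)
    rfl patt9 lett9 fix9 orb9 cand9

theorem inner_all (φ : MulAut Cfsg.Spor.Fi23) : φ ∈ Cfsg.Inn Cfsg.Spor.Fi23 := by
  obtain ⟨g, hg⟩ := norm10 φ
  have hall : ∀ l < 10, l ∈ od.take 10 := by decide
  have h : MulAut.conj g * φ = 1 := by
    refine MulEquiv.ext fun x => ?_
    have hx : x ∈ Subgroup.closure {y | y ∈ Lg} := closure_Lg ▸ Subgroup.mem_top x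
    induction hx using Subgroup.closure_induction with
    | mem y hy =>
      obtain ⟨l, hl, rfl⟩ := List.getElem_of_mem hy
      have hl10 : l < 10 := hl
      have := hg l (hall l hl10)
      rwa [fl, List.getD_eq_getElem _ _ hl] at this
    | one => simp
    | mul a b _ _ ha hb => rw [map_mul, map_mul, ha, hb]
    | inv a _ ha => rw [map_inv, map_inv, ha]
  refine ⟨g⁻¹, ?_⟩
  rw [map_inv]
  exact inv_eq_of_mul_eq_one_right h

theorem card_out : Nat.card (Cfsg.Out Cfsg.Spor.Fi23) = 1 := by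
  show (Cfsg.Inn Cfsg.Spor.Fi23).index = 1
  rw [Subgroup.index_eq_one, Subgroup.eq_top_iff']
  exact inner_all

end CfsgLib.Coset.Fi23Out
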