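import Cfsg.Agent.Coset.TransOut.Aut

/-! Certificates for the automorphisms of the presented group. Generated data. -/

set_option autoImplicit false
set_option maxRecDepth 100000
set_option linter.unusedVariables false

namespace CfsgLib.Coset.Fi23Out

open CfsgLib.Coset.TransOut

def pre4 : List (Nat × Nat × Bool) := [(1, 8004, true), (5, 8002, true), (6, 8005, true), (0, 11589, true)]
def gens4 : List (List Nat) := [[3], [8], [9], [7, 6, 5, 4, 5, 6, 7], [4, 5, 2, 3, 4, 1, 2, 3, 8, 6, 5, 4, 3, 2, 1, 0, 1, 2, 3, 4, 5, 6, 8, 3, 2, 1, 4, 3, 2, 5, 4], [2, 3, 8, 9, 1, 2, 3, 8, 7, 6, 5, 4, 3, 2, 1, 0, 1, 2, 3, 4, 5, 6, 7, 8, 3, 2, 1, 9, 8, 3, 2]]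
noncomputable def P4L0 (i : Nat) : Nat := (Bool.rec (motive := fun _ => Nat) 0x5000015000005000000000015000d92000005000014000563000003000013000c6c0000030000120007a500000500001100061400000300001000016400000300000f0002e000000300000d00059f00000500000a0003e800000400000a000a4b00000300000900093c000001000009001f4000000000000700057c0000030000060002050000020000060002d600000100000600057b0000010000050001fe0000000000050003fc00000400000400015e00000400000300077800000300000300075400000200000300197a0000020000020001fd0000010000020003fb0000000000020003fa0000040000010002d8000002000001001f3f0000000000010014a60000040000000002d7000001000000001989000000000000001f47 0x3000029000dcd0000030000280000b20000030000270000000000050000250009df00000500002100031e00000500001e00000400000500001c00075700000000001c00103600000500001b00000700000500001900085900000500001800045f00000000001800040700000500001700000a (Nat.ble 1 i))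
noncomputable def P4T (i : Nat) : Nat := (P4L0 i)
noncomputable def P4 (i : Nat) : Nat := Nat.shiftRight (P4T (Nat.shiftRight i 5)) (Nat.mul 72 (Nat.land i 31))
noncomputable def Inv4L0 (i : Nat) : Nat := (Bool.rec (motive := fun _ => Nat) (Bool.rec (motive := fun _ => Nat) (Bool.rec (motive := fun _ => Nat) (Bool.rec (motive := fun _ => Nat) 0x2000000000000000002400000000001f00002700000000000000000000002a 0x0 (Nat.ble 1 i)) (Bool.rec (motive := fun _ => Nat) 0x0 0x0 (Nat.ble 3 i)) (Nat.ble 2 i)) (Bool.rec (motive := fun _ => Nat) (Bool.rec (motive := fun _ => Nat) 0x0 0x2b000000000000000000000000000000000000000000000000000000000000000000000000000000000000000000000000000000000000 (Nat.ble 5 i)) (Bool.rec (motive := fun _ => Nat) 0x0 0x0 (Nat.ble 7 i)) (Nat.ble 6 i)) (Nat.ble 4 i)) (Bool.rec (motive := fun _ => Nat) (Bool.rec (motive := fun _ => Nat) (Bool.rec (motive := fun _ => Nat) 0x0 0x0 (Nat.ble 9 i)) (Bool.rec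 (motive := fun _ => Nat) 0xc000000000000000000000000000000000000000000000000000000000000000000000000000000000000000000000000000000000000000000000000000000000000000000000000000000000000000000000000000000000000 0x19000000000000000000000000 (Nat.ble 11 i)) (Nat.ble 10 i)) (Bool.rec (motive := fun _ => Nat) (Bool.rec (motive := fun _ => Nat) 0x0 0x0 (Nat.ble 13 i)) (Bool.rec (motive := fun _ => Nat) 0x0 0xe000008000000000000000000000000000000000000000000000000000000000000000000000000000000000000000000000000000000000000000000000000000000000000000000000000000000000000000000000000000000 (Nat.ble 15 i)) (Nat.ble 14 i)) (Nat.ble 12 i)) (Nat.ble 8 i))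
noncomputable def Inv4L1 (i : Nat) : Nat := (Bool.rec (motive := fun _ => Nat) (Bool.rec (motive := fun _ => Nat) (Bool.rec (motive := fun _ => Nat) (Bool.rec (motive := fun _ => Nat) 0x11000000000000000000000000000000 0x0 (Nat.ble 17 i)) (Bool.rec (motive := fun _ => Nat) 0x0 0x0 (Nat.ble 19 i)) (Nat.ble 18 i)) (Bool.rec (motive := fun _ => Nat) (Bool.rec (motive := fun _ => Nat) 0x0 0x0 (Nat.ble 21 i)) (Bool.rec (motive := fun _ => Nat) 0x5000002000010000000000000000000000000000000000000000000000000000000000000000000000000000000000000000000000000000000000000000000000000000000000000 0x18 (Nat.ble 23 i)) (Nat.ble 22 i)) (Nat.ble 20 i)) (Bool.rec (motive := fun _ => Nat) (Bool.rec (motive := fun _ => Nat) (Bool.rec (motive := fun _ => Nat) 0x28000000000000000000000000000000000000000000000000000000000000000000000000000000000000000000000000000000000000000000000000000000000000000000000000000000000000000000000000000000000000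 0x0 (Nat.ble 25 i)) (Bool.rec (motive := fun _ => Nat) 0x0 0x0 (Nat.ble 27 i)) (Nat.ble 26 i)) (Bool.rec (motive := fun _ => Nat) (Bool.rec (motive := fun _ => Nat) 0x0 0x0 (Nat.ble 29 i)) (Bool.rec (motive := fun _ => Nat) 0x0 0xd000007000006000000000000000000000000000000000000000000000000000000000000000000000000000000000000000000000000000000000016000000000000000000000000000000000000000000000000 (Nat.ble 31 i)) (Nat.ble 30 i)) (Nat.ble 28 i)) (Nat.ble 24 i))
noncomputable def Inv4L2 (i : Nat) : Nat := (Bool.rec (motive := fun _ => Nat) (Bool.rec (motive := fun _ => Nat) (Bool.rec (motive := fun _ => Nat) (Bool.rec (motive := fun _ => Nat) 0x21000000000000000000000000000000000000000000 0x0 (Nat.ble 33 i)) (Bool.rec (motive := fun _ => Nat) 0x22000000000000000000000000000000000000000000000000000000000000000000000000000000000000000000000000000000000000000000000000000000000000000000000000000000000000000000000000000000000000000000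 0x0 (Nat.ble 35 i)) (Nat.ble 34 i)) (Bool.rec (motive := fun _ => Nat) (Bool.rec (motive := fun _ => Nat) 0x0 0x0 (Nat.ble 37 i)) (Bool.rec (motive := fun _ => Nat) 0x0 0x0 (Nat.ble 39 i)) (Nat.ble 38 i)) (Nat.ble 36 i)) (Bool.rec (motive := fun _ => Nat) (Bool.rec (motive := fun _ => Nat) (Bool.rec (motive := fun _ => Nat) 0x0 0x0 (Nat.ble 41 i)) (Bool.rec (motive := fun _ => Nat) 0x0 0x1200000f00000000000000000000000000000000000000000000000000000000000000000000000000000000000000000000000000000000000000000000000000000000000000000000001d000000000000000000 (Nat.ble 43 i)) (Nat.ble 42 i)) (Bool.rec (motive := fun _ => Nat) (Bool.rec (motive := fun _ => Nat) 0x17000000000000000000000000000000000000000000000000000000000000000000000000000000000000000000000000000000000000000000000000000000000000000000000000000000000000000000000000000000000000000000 0x0 (Nat.ble 45 i)) (Bool.rec (motive := fun _ => Nat) 0x0 0x0 (Nat.ble 47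 i)) (Nat.ble 46 i)) (Nat.ble 44 i)) (Nat.ble 40 i))
noncomputable def Inv4L3 (i : Nat) : Nat := (Bool.rec (motive := fun _ => Nat) (Bool.rec (motive := fun _ => Nat) (Bool.rec (motive := fun _ => Nat) (Bool.rec (motive := fun _ => Nat) 0x1a000000000000000000000000000000000000000000000000000000000000000000000000000000000000000000000000000000000000000000000000 0x0 (Nat.ble 49 i)) (Bool.rec (motive := fun _ => Nat) 0x0 0x0 (Nat.ble 51 i)) (Nat.ble 50 i)) (Bool.rec (motive := fun _ => Nat) (Bool.rec (motive := fun _ => Nat) 0x0 0x0 (Nat.ble 53 i)) (Bool.rec (motive := fun _ => Nat) 0x0 0x0 (Nat.ble 55 i)) (Nat.ble 54 i)) (Nat.ble 52 i)) (Bool.rec (motive := fun _ => Nat) (Bool.rec (motive := fun _ => Nat) (Bool.rec (motive := fun _ => Nat) 0x0 0x0 (Nat.ble 57 i)) (Bool.rec (motive := fun _ => Nat) 0x2600000000000000000a000000000000000000000000000000000000000000000000000000000000000000000000000000000000000000000000000000000000000000000000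 0xb000000000000000000000000000000000000000000000000000000000000000000000000000000000000000000000000000000000000000000000000000000000000000000000000 (Nat.ble 59 i)) (Nat.ble 58 i)) (Bool.rec (motive := fun _ => Nat) (Bool.rec (motive := fun _ => Nat) 0x0 0x1b000000000000000000000000000000 (Nat.ble 61 i)) (Bool.rec (motive := fun _ => Nat) 0x0 0x0 (Nat.ble 63 i)) (Nat.ble 62 i)) (Nat.ble 60 i)) (Nat.ble 56 i))
noncomputable def Inv4L4 (i : Nat) : Nat := (Bool.rec (motive := fun _ => Nat) (Bool.rec (motive := fun _ => Nat) (Bool.rec (motive := fun _ => Nat) (Bool.rec (motive := fun _ => Nat) 0x0 0x0 (Nat.ble 65 i)) (Bool.rec (motive := fun _ => Nat) 0x23000000000000000000000000000000000000000000000000000000000000000000000000000000000000000000000000000000000000000000000000000000000000000000000000000000 0x0 (Nat.ble 67 i)) (Nat.ble 66 i)) (Bool.rec (motive := fun _ => Nat) (Bool.rec (motive := fun _ => Nat) 0x0 0x0 (Nat.ble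 69 i)) (Bool.rec (motive := fun _ => Nat) 0x0 0x0 (Nat.ble 71 i)) (Nat.ble 70 i)) (Nat.ble 68 i)) (Bool.rec (motive := fun _ => Nat) (Bool.rec (motive := fun _ => Nat) (Bool.rec (motive := fun _ => Nat) 0x0 0x14000000000000000000000000000000000000000000000000000000000000000000000000000000000000000000000000000000000000000000000000000000000000000000000000000000000000000000000000 (Nat.ble 73 i)) (Bool.rec (motive := fun _ => Nat) 0x0 0x0 (Nat.ble 75 i)) (Nat.ble 74 i)) (Bool.rec (motive := fun _ => Nat) (Bool.rec (motive := fun _ => Nat) 0x0 0x0 (Nat.ble 77 i)) (Bool.rec (motive := fun _ => Nat) 0x29000000000000000000000000000000000000000000000000000000000000000000000000000000000000000000000000000000000000000000000000000000000000000000000000000000000000000000000000000000000000000000 0x0 (Nat.ble 79 i)) (Nat.ble 78 i)) (Nat.ble 76 i)) (Nat.ble 72 i))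
noncomputable def Inv4L5 (i : Nat) : Nat := (Bool.rec (motive := fun _ => Nat) (Bool.rec (motive := fun _ => Nat) (Bool.rec (motive := fun _ => Nat) (Bool.rec (motive := fun _ => Nat) 0x0 0x0 (Nat.ble 81 i)) (Bool.rec (motive := fun _ => Nat) 0x15000000000000000000000000000000000000000000000000000000000000000000 0x0 (Nat.ble 83 i)) (Nat.ble 82 i)) (Bool.rec (motive := fun _ => Nat) (Bool.rec (motive := fun _ => Nat) 0x0 0x0 (Nat.ble 85 i)) (Bool.rec (motive := fun _ => Nat) 0x0 0x0 (Nat.ble 87 i)) (Nat.ble 86 i)) (Nat.ble 84 i)) (Bool.rec (motive := fun _ => Nat) (Bool.rec (motive := fun _ => Nat) (Bool.rec (motive := fun _ => Nat) 0x0 0x0 (Nat.ble 89 i)) (Bool.rec (motive := fun _ => Nat) 0x0 0x0 (Nat.ble 91 i)) (Nat.ble 90 i)) (Bool.rec (motive := fun _ => Nat) (Bool.rec (motive := fun _ => Nat) 0x0 0x0 (Nat.ble 93 i)) (Bool.rec (motive := fun _ => Nat) 0x0 0x0 (Nat.ble 95 i)) (Nat.ble 94 i)) (Nat.ble 92 i)) (Nat.ble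 88 i))
noncomputable def Inv4L6 (i : Nat) : Nat := (Bool.rec (motive := fun _ => Nat) (Bool.rec (motive := fun _ => Nat) (Bool.rec (motive := fun _ => Nat) (Bool.rec (motive := fun _ => Nat) 0x0 0x0 (Nat.ble 97 i)) (Bool.rec (motive := fun _ => Nat) 0x0 0x1c000000000000000000000000000000000000000000000000000000000000000000000000 (Nat.ble 99 i)) (Nat.ble 98 i)) (Bool.rec (motive := fun _ => Nat) (Bool.rec (motive := fun _ => Nat) 0x0 0x0 (Nat.ble 101 i)) (Bool.rec (motive := fun _ => Nat) 0x0 0x0 (Nat.ble 103 i)) (Nat.ble 102 i)) (Nat.ble 100 i)) (Bool.rec (motive := fun _ => Nat) (Bool.rec (motive := fun _ => Nat) (Bool.rec (motive := fun _ => Nat) 0x0 0x0 (Nat.ble 105 i)) (Bool.rec (motive := fun _ => Nat) 0x0 0x0 (Nat.ble 107 i)) (Nat.ble 106 i)) (Bool.rec (motive := fun _ => Nat) (Bool.rec (motive := fun _ => Nat) 0x1e000000000000000000000000000000000000000000000000000000000000000000000000000000000000000000000000000000000000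 0x0 (Nat.ble 109 i)) (Bool.rec (motive := fun _ => Nat) 0x2c000000000000000000000000000000000000000000000000000000000000000000000000000000 0x0 (Nat.ble 111 i)) (Nat.ble 110 i)) (Nat.ble 108 i)) (Nat.ble 104 i))
noncomputable def Inv4L7 (i : Nat) : Nat := (Bool.rec (motive := fun _ => Nat) (Bool.rec (motive := fun _ => Nat) (Bool.rec (motive := fun _ => Nat) (Bool.rec (motive := fun _ => Nat) 0x0 0x0 (Nat.ble 113 i)) (Bool.rec (motive := fun _ => Nat) 0x0 0x0 (Nat.ble 115 i)) (Nat.ble 114 i)) (Bool.rec (motive := fun _ => Nat) (Bool.rec (motive := fun _ => Nat) 0x0 0x0 (Nat.ble 117 i)) (Bool.rec (motive := fun _ => Nat) 0x0 0x0 (Nat.ble 119 i)) (Nat.ble 118 i)) (Nat.ble 116 i)) (Bool.rec (motive := fun _ => Nat) (Bool.rec (motive := fun _ => Nat) (Bool.rec (motive := fun _ => Nat) 0x0 0x0 (Nat.ble 121 i)) (Bool.rec (motive := fun _ => Nat) 0x0 0x0 (Nat.ble 123 i)) (Nat.ble 122 i)) (Bool.rec (motive := fun _ => Nat) (Bool.rec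 (motive := fun _ => Nat) 0x0 0x0 (Nat.ble 125 i)) (Bool.rec (motive := fun _ => Nat) 0x0 0x0 (Nat.ble 127 i)) (Nat.ble 126 i)) (Nat.ble 124 i)) (Nat.ble 120 i))
noncomputable def Inv4L8 (i : Nat) : Nat := (Bool.rec (motive := fun _ => Nat) (Bool.rec (motive := fun _ => Nat) (Bool.rec (motive := fun _ => Nat) (Bool.rec (motive := fun _ => Nat) 0x0 0x25000000000000000000000000000000000000000000000000000000000000000000000000000000000000000000000000000000000000000000000000000000000000 (Nat.ble 129 i)) (Bool.rec (motive := fun _ => Nat) 0x0 0x0 (Nat.ble 131 i)) (Nat.ble 130 i)) (Bool.rec (motive := fun _ => Nat) (Bool.rec (motive := fun _ => Nat) 0x0 0x0 (Nat.ble 133 i)) (Bool.rec (motive := fun _ => Nat) 0x0 0x0 (Nat.ble 135 i)) (Nat.ble 134 i)) (Nat.ble 132 i)) (Bool.rec (motive := fun _ => Nat) (Bool.rec (motive := fun _ => Nat) (Bool.rec (motive := fun _ => Nat) 0x0 0x0 (Nat.ble 137 i)) (Bool.rec (motive := fun _ => Nat)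 0x0 0x0 (Nat.ble 139 i)) (Nat.ble 138 i)) (Bool.rec (motive := fun _ => Nat) (Bool.rec (motive := fun _ => Nat) 0x0 0x0 (Nat.ble 141 i)) (Bool.rec (motive := fun _ => Nat) 0x0 0x0 (Nat.ble 143 i)) (Nat.ble 142 i)) (Nat.ble 140 i)) (Nat.ble 136 i))
noncomputable def Inv4L9 (i : Nat) : Nat := (Bool.rec (motive := fun _ => Nat) (Bool.rec (motive := fun _ => Nat) (Bool.rec (motive := fun _ => Nat) (Bool.rec (motive := fun _ => Nat) 0x0 0x0 (Nat.ble 145 i)) (Bool.rec (motive := fun _ => Nat) 0x0 0x0 (Nat.ble 147 i)) (Nat.ble 146 i)) (Bool.rec (motive := fun _ => Nat) (Bool.rec (motive := fun _ => Nat) 0x0 0x0 (Nat.ble 149 i)) (Bool.rec (motive := fun _ => Nat) 0x0 0x0 (Nat.ble 151 i)) (Nat.ble 150 i)) (Nat.ble 148 i)) (Bool.rec (motive := fun _ => Nat) (Bool.rec (motive := fun _ => Nat) (Bool.rec (motive := fun _ => Nat) 0x0 0x0 (Nat.ble 153 i)) (Bool.rec (motive := fun _ => Nat) 0x0 0x0 (Nat.ble 155 i)) (Nat.ble 154 i))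 (Bool.rec (motive := fun _ => Nat) (Bool.rec (motive := fun _ => Nat) 0x0 0x0 (Nat.ble 157 i)) (Bool.rec (motive := fun _ => Nat) 0x0 0x0 (Nat.ble 159 i)) (Nat.ble 158 i)) (Nat.ble 156 i)) (Nat.ble 152 i))
noncomputable def Inv4L10 (i : Nat) : Nat := (Bool.rec (motive := fun _ => Nat) (Bool.rec (motive := fun _ => Nat) (Bool.rec (motive := fun _ => Nat) (Bool.rec (motive := fun _ => Nat) 0x0 0x0 (Nat.ble 161 i)) (Bool.rec (motive := fun _ => Nat) 0x0 0x0 (Nat.ble 163 i)) (Nat.ble 162 i)) (Bool.rec (motive := fun _ => Nat) (Bool.rec (motive := fun _ => Nat) 0x0 0x3000000000000000000000000000000000000 (Nat.ble 165 i)) (Bool.rec (motive := fun _ => Nat) 0x0 0x0 (Nat.ble 167 i)) (Nat.ble 166 i)) (Nat.ble 164 i)) (Bool.rec (motive := fun _ => Nat) (Bool.rec (motive := fun _ => Nat) (Bool.rec (motive := fun _ => Nat) 0x0 0x0 (Nat.ble 169 i)) (Bool.rec (motive := fun _ => Nat) 0x0 0x0 (Nat.ble 171 i)) (Nat.ble 170 i)) (Bool.rec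 (motive := fun _ => Nat) (Bool.rec (motive := fun _ => Nat) 0x0 0x0 (Nat.ble 173 i)) (Bool.rec (motive := fun _ => Nat) 0x0 0x0 (Nat.ble 175 i)) (Nat.ble 174 i)) (Nat.ble 172 i)) (Nat.ble 168 i))
noncomputable def Inv4L11 (i : Nat) : Nat := (Bool.rec (motive := fun _ => Nat) (Bool.rec (motive := fun _ => Nat) (Bool.rec (motive := fun _ => Nat) (Bool.rec (motive := fun _ => Nat) 0x0 0x0 (Nat.ble 177 i)) (Bool.rec (motive := fun _ => Nat) 0x0 0x0 (Nat.ble 179 i)) (Nat.ble 178 i)) (Bool.rec (motive := fun _ => Nat) (Bool.rec (motive := fun _ => Nat) 0x0 0x0 (Nat.ble 181 i)) (Bool.rec (motive := fun _ => Nat) 0x0 0x0 (Nat.ble 183 i)) (Nat.ble 182 i)) (Nat.ble 180 i)) (Bool.rec (motive := fun _ => Nat) (Bool.rec (motive := fun _ => Nat) (Bool.rec (motive := fun _ => Nat) 0x0 0x0 (Nat.ble 185 i)) (Bool.rec (motive := fun _ => Nat) 0x0 0x0 (Nat.ble 187 i)) (Nat.ble 186 i)) (Bool.rec (motive := fun _ => Nat) (Bool.rec (motive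 := fun _ => Nat) 0x0 0x0 (Nat.ble 189 i)) (Bool.rec (motive := fun _ => Nat) 0x0 0x0 (Nat.ble 191 i)) (Nat.ble 190 i)) (Nat.ble 188 i)) (Nat.ble 184 i))
noncomputable def Inv4L12 (i : Nat) : Nat := (Bool.rec (motive := fun _ => Nat) (Bool.rec (motive := fun _ => Nat) (Bool.rec (motive := fun _ => Nat) (Bool.rec (motive := fun _ => Nat) 0x0 0x0 (Nat.ble 193 i)) (Bool.rec (motive := fun _ => Nat) 0x0 0x0 (Nat.ble 195 i)) (Nat.ble 194 i)) (Bool.rec (motive := fun _ => Nat) (Bool.rec (motive := fun _ => Nat) 0x0 0x0 (Nat.ble 197 i)) (Bool.rec (motive := fun _ => Nat) 0x0 0x0 (Nat.ble 199 i)) (Nat.ble 198 i)) (Nat.ble 196 i)) (Bool.rec (motive := fun _ => Nat) (Bool.rec (motive := fun _ => Nat) (Bool.rec (motive := fun _ => Nat) 0x0 0x0 (Nat.ble 201 i)) (Bool.rec (motive := fun _ => Nat) 0x0 0x9000000000000000000000000000000000000000000000000000000000000000000000000000000000000000000000000000000000000000000000000000000000000000000000000000000000000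 (Nat.ble 203 i)) (Nat.ble 202 i)) (Bool.rec (motive := fun _ => Nat) (Bool.rec (motive := fun _ => Nat) 0x1000000000000000000000000000000000000000000000000000000 0x0 (Nat.ble 205 i)) (Bool.rec (motive := fun _ => Nat) 0x0 0x0 (Nat.ble 207 i)) (Nat.ble 206 i)) (Nat.ble 204 i)) (Nat.ble 200 i))
noncomputable def Inv4L13 (i : Nat) : Nat := (Bool.rec (motive := fun _ => Nat) (Bool.rec (motive := fun _ => Nat) (Bool.rec (motive := fun _ => Nat) (Bool.rec (motive := fun _ => Nat) 0x0 0x0 (Nat.ble 209 i)) (Bool.rec (motive := fun _ => Nat) 0x0 0x0 (Nat.ble 211 i)) (Nat.ble 210 i)) (Bool.rec (motive := fun _ => Nat) (Bool.rec (motive := fun _ => Nat) 0x0 0x0 (Nat.ble 213 i)) (Bool.rec (motive := fun _ => Nat) 0x0 0x0 (Nat.ble 215 i)) (Nat.ble 214 i)) (Nat.ble 212 i)) (Bool.rec (motive := fun _ => Nat) (Bool.rec (motive := fun _ => Nat) (Bool.rec (motive := fun _ => Nat) 0x0 0x0 (Nat.ble 217 i)) (Bool.rec (motive := fun _ =>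 Nat) 0x0 0x0 (Nat.ble 219 i)) (Nat.ble 218 i)) (Bool.rec (motive := fun _ => Nat) (Bool.rec (motive := fun _ => Nat) 0x0 0x0 (Nat.ble 221 i)) (Bool.rec (motive := fun _ => Nat) 0x0 0x0 (Nat.ble 223 i)) (Nat.ble 222 i)) (Nat.ble 220 i)) (Nat.ble 216 i))
noncomputable def Inv4L14 (i : Nat) : Nat := (Bool.rec (motive := fun _ => Nat) (Bool.rec (motive := fun _ => Nat) (Bool.rec (motive := fun _ => Nat) (Bool.rec (motive := fun _ => Nat) 0x0 0x0 (Nat.ble 225 i)) (Bool.rec (motive := fun _ => Nat) 0x0 0x0 (Nat.ble 227 i)) (Nat.ble 226 i)) (Bool.rec (motive := fun _ => Nat) (Bool.rec (motive := fun _ => Nat) 0x0 0x0 (Nat.ble 229 i)) (Bool.rec (motive := fun _ => Nat) 0x0 0x0 (Nat.ble 231 i)) (Nat.ble 230 i)) (Nat.ble 228 i)) (Bool.rec (motive := fun _ => Nat) (Bool.rec (motive := fun _ => Nat) (Bool.rec (motive := fun _ => Nat) 0x0 0x0 (Nat.ble 233 i)) (Bool.rec (motive := fun _ => Nat) 0x0 0x0 (Nat.ble 235 i)) (Nat.ble 234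 i)) (Bool.rec (motive := fun _ => Nat) (Bool.rec (motive := fun _ => Nat) 0x0 0x0 (Nat.ble 237 i)) (Bool.rec (motive := fun _ => Nat) 0x0 0x0 (Nat.ble 239 i)) (Nat.ble 238 i)) (Nat.ble 236 i)) (Nat.ble 232 i))
noncomputable def Inv4L15 (i : Nat) : Nat := (Bool.rec (motive := fun _ => Nat) (Bool.rec (motive := fun _ => Nat) (Bool.rec (motive := fun _ => Nat) (Bool.rec (motive := fun _ => Nat) 0x0 0x0 (Nat.ble 241 i)) (Bool.rec (motive := fun _ => Nat) 0x0 0x0 (Nat.ble 243 i)) (Nat.ble 242 i)) (Bool.rec (motive := fun _ => Nat) (Bool.rec (motive := fun _ => Nat) 0x0 0x0 (Nat.ble 245 i)) (Bool.rec (motive := fun _ => Nat) 0x0 0x0 (Nat.ble 247 i)) (Nat.ble 246 i)) (Nat.ble 244 i)) (Bool.rec (motive := fun _ => Nat) (Bool.rec (motive := fun _ => Nat) (Bool.rec (motive := fun _ => Nat) 0x0 0x4000000000000000000000000000000000000000000000000000000000000000000000000000000000000000000000000000000000000000000000000000000000000000000000000000000000000000000000000000000000000000000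 (Nat.ble 249 i)) (Bool.rec (motive := fun _ => Nat) 0x13 0x0 (Nat.ble 251 i)) (Nat.ble 250 i)) (Bool.rec (motive := fun _ => Nat) (Bool.rec (motive := fun _ => Nat) 0x0 0x0 (Nat.ble 253 i)) (Bool.rec (motive := fun _ => Nat) 0x0 0x0 (Nat.ble 255 i)) (Nat.ble 254 i)) (Nat.ble 252 i)) (Nat.ble 248 i))
noncomputable def Inv4L16 (i : Nat) : Nat := (Bool.rec (motive := fun _ => Nat) (Bool.rec (motive := fun _ => Nat) (Bool.rec (motive := fun _ => Nat) (Bool.rec (motive := fun _ => Nat) 0x0 0x0 (Nat.ble 257 i)) (Bool.rec (motive := fun _ => Nat) 0x0 0x0 (Nat.ble 259 i)) (Nat.ble 258 i)) (Bool.rec (motive := fun _ => Nat) (Bool.rec (motive := fun _ => Nat) 0x0 0x0 (Nat.ble 261 i)) (Bool.rec (motive := fun _ => Nat) 0x0 0x0 (Nat.ble 263 i)) (Nat.ble 262 i)) (Nat.ble 260 i)) (Bool.rec (motive := fun _ => Nat) (Bool.rec (motive := fun _ => Nat) (Bool.rec (motive := fun _ => Nat) 0x0 0x0 (Nat.ble 265 i)) (Bool.rec (motive := fun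 _ => Nat) 0x0 0x0 (Nat.ble 267 i)) (Nat.ble 266 i)) (Bool.rec (motive := fun _ => Nat) (Bool.rec (motive := fun _ => Nat) 0x0 0x0 (Nat.ble 269 i)) (Bool.rec (motive := fun _ => Nat) 0x0 0x0 (Nat.ble 271 i)) (Nat.ble 270 i)) (Nat.ble 268 i)) (Nat.ble 264 i))
noncomputable def Inv4L17 (i : Nat) : Nat := (Bool.rec (motive := fun _ => Nat) (Bool.rec (motive := fun _ => Nat) (Bool.rec (motive := fun _ => Nat) (Bool.rec (motive := fun _ => Nat) 0x0 0x0 (Nat.ble 273 i)) (Bool.rec (motive := fun _ => Nat) 0x0 0x0 (Nat.ble 275 i)) (Nat.ble 274 i)) (Bool.rec (motive := fun _ => Nat) (Bool.rec (motive := fun _ => Nat) 0x0 0x0 (Nat.ble 277 i)) (Bool.rec (motive := fun _ => Nat) 0x0 0x0 (Nat.ble 279 i)) (Nat.ble 278 i)) (Nat.ble 276 i)) (Bool.rec (motive := fun _ => Nat) (Bool.rec (motive := fun _ => Nat) (Bool.rec (motive := fun _ => Nat) 0x0 0x0 (Nat.ble 281 i)) (Bool.rec (motive := fun _ => Nat) 0x0 0x0 (Nat.ble 283 i)) (Nat.ble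 282 i)) (Bool.rec (motive := fun _ => Nat) (Bool.rec (motive := fun _ => Nat) 0x0 0x0 (Nat.ble 285 i)) (Bool.rec (motive := fun _ => Nat) 0x0 0x0 (Nat.ble 287 i)) (Nat.ble 286 i)) (Nat.ble 284 i)) (Nat.ble 280 i))
noncomputable def Inv4L18 (i : Nat) : Nat := (Bool.rec (motive := fun _ => Nat) (Bool.rec (motive := fun _ => Nat) (Bool.rec (motive := fun _ => Nat) (Bool.rec (motive := fun _ => Nat) 0x0 0x0 (Nat.ble 289 i)) (Bool.rec (motive := fun _ => Nat) 0x0 0x0 (Nat.ble 291 i)) (Nat.ble 290 i)) (Bool.rec (motive := fun _ => Nat) (Bool.rec (motive := fun _ => Nat) 0x0 0x0 (Nat.ble 293 i)) (Bool.rec (motive := fun _ => Nat) 0x0 0x0 (Nat.ble 295 i)) (Nat.ble 294 i)) (Nat.ble 292 i)) (Bool.rec (motive := fun _ => Nat) (Bool.rec (motive := fun _ => Nat) (Bool.rec (motive := fun _ => Nat) 0x0 0x0 (Nat.ble 297 i)) (Bool.rec (motive := fun _ => Nat) 0x0 0x0 (Nat.ble 299 i)) (Nat.ble 298 i)) (Bool.rec (motive := fun _ => Nat)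 (Bool.rec (motive := fun _ => Nat) 0x0 0x0 (Nat.ble 301 i)) (Bool.rec (motive := fun _ => Nat) 0x0 0x0 (Nat.ble 303 i)) (Nat.ble 302 i)) (Nat.ble 300 i)) (Nat.ble 296 i))
noncomputable def Inv4L19 (i : Nat) : Nat := (Bool.rec (motive := fun _ => Nat) (Bool.rec (motive := fun _ => Nat) (Bool.rec (motive := fun _ => Nat) (Bool.rec (motive := fun _ => Nat) 0x0 0x0 (Nat.ble 305 i)) (Bool.rec (motive := fun _ => Nat) 0x0 0x0 (Nat.ble 307 i)) (Nat.ble 306 i)) (Bool.rec (motive := fun _ => Nat) (Bool.rec (motive := fun _ => Nat) 0x0 0x0 (Nat.ble 309 i)) (Bool.rec (motive := fun _ => Nat) 0x0 0x0 (Nat.ble 311 i)) (Nat.ble 310 i)) (Nat.ble 308 i)) (Bool.rec (motive := fun _ => Nat) (Bool.rec (motive := fun _ => Nat) (Bool.rec (motive := fun _ => Nat) 0x0 0x0 (Nat.ble 313 i)) (Bool.rec (motive := fun _ => Nat) 0x0 0x0 (Nat.ble 315 i)) (Nat.ble 314 i)) (Bool.rec (motive := fun _ => Nat) (Bool.rec (motive := fun _ => Nat) 0x0 0x0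 (Nat.ble 317 i)) (Bool.rec (motive := fun _ => Nat) 0x0 0x0 (Nat.ble 319 i)) (Nat.ble 318 i)) (Nat.ble 316 i)) (Nat.ble 312 i))
noncomputable def Inv4L20 (i : Nat) : Nat := (Bool.rec (motive := fun _ => Nat) (Bool.rec (motive := fun _ => Nat) (Bool.rec (motive := fun _ => Nat) (Bool.rec (motive := fun _ => Nat) 0x0 0x0 (Nat.ble 321 i)) (Bool.rec (motive := fun _ => Nat) 0x0 0x0 (Nat.ble 323 i)) (Nat.ble 322 i)) (Bool.rec (motive := fun _ => Nat) (Bool.rec (motive := fun _ => Nat) 0x0 0x0 (Nat.ble 325 i)) (Bool.rec (motive := fun _ => Nat) 0x0 0x0 (Nat.ble 327 i)) (Nat.ble 326 i)) (Nat.ble 324 i)) (Bool.rec (motive := fun _ => Nat) (Bool.rec (motive := fun _ => Nat) (Bool.rec (motive := fun _ => Nat) 0x0 0x0 (Nat.ble 329 i)) (Bool.rec (motive := fun _ => Nat) 0x0 0x0 (Nat.ble 331 i)) (Nat.ble 330 i)) (Bool.rec (motive := fun _ => Nat) (Bool.rec (motive := fun _ => Nat) 0x0 0x0 (Nat.ble 333 i)) (Bool.rec (motive := fun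 _ => Nat) 0x0 0x0 (Nat.ble 335 i)) (Nat.ble 334 i)) (Nat.ble 332 i)) (Nat.ble 328 i))
noncomputable def Inv4L21 (i : Nat) : Nat := (Bool.rec (motive := fun _ => Nat) (Bool.rec (motive := fun _ => Nat) (Bool.rec (motive := fun _ => Nat) (Bool.rec (motive := fun _ => Nat) 0x0 0x0 (Nat.ble 337 i)) (Bool.rec (motive := fun _ => Nat) 0x0 0x0 (Nat.ble 339 i)) (Nat.ble 338 i)) (Bool.rec (motive := fun _ => Nat) (Bool.rec (motive := fun _ => Nat) 0x0 0x0 (Nat.ble 341 i)) (Bool.rec (motive := fun _ => Nat) 0x0 0x0 (Nat.ble 343 i)) (Nat.ble 342 i)) (Nat.ble 340 i)) (Bool.rec (motive := fun _ => Nat) (Bool.rec (motive := fun _ => Nat) (Bool.rec (motive := fun _ => Nat) 0x0 0x0 (Nat.ble 345 i)) (Bool.rec (motive := fun _ => Nat) 0x0 0x0 (Nat.ble 347 i)) (Nat.ble 346 i)) (Bool.rec (motive := fun _ => Nat) (Bool.rec (motive := fun _ => Nat) 0x0 0x0 (Nat.ble 349 i)) (Bool.rec (motive := fun _ => Nat) 0x0 0x0 (Nat.ble 351 i)) (Nat.ble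 350 i)) (Nat.ble 348 i)) (Nat.ble 344 i))
noncomputable def Inv4L22 (i : Nat) : Nat := (Bool.rec (motive := fun _ => Nat) (Bool.rec (motive := fun _ => Nat) (Bool.rec (motive := fun _ => Nat) (Bool.rec (motive := fun _ => Nat) 0x0 0x0 (Nat.ble 353 i)) (Bool.rec (motive := fun _ => Nat) 0x0 0x0 (Nat.ble 355 i)) (Nat.ble 354 i)) (Bool.rec (motive := fun _ => Nat) (Bool.rec (motive := fun _ => Nat) 0x0 0x0 (Nat.ble 357 i)) (Bool.rec (motive := fun _ => Nat) 0x0 0x0 (Nat.ble 359 i)) (Nat.ble 358 i)) (Nat.ble 356 i)) (Bool.rec (motive := fun _ => Nat) (Bool.rec (motive := fun _ => Nat) (Bool.rec (motive := fun _ => Nat) 0x0 0x0 (Nat.ble 361 i)) (Bool.rec (motive := fun _ => Nat) 0x0 0x0 (Nat.ble 363 i)) (Nat.ble 362 i)) (Bool.rec (motive := fun _ => Nat) (Bool.rec (motive := fun _ => Nat) 0x0 0x0 (Nat.ble 365 i)) (Bool.rec (motive := fun _ => Nat) 0x0 0x0 (Nat.ble 367 i)) (Nat.ble 366 i)) (Nat.ble 364 i)) (Nat.ble 360 i))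
noncomputable def Inv4L23 (i : Nat) : Nat := (Bool.rec (motive := fun _ => Nat) (Bool.rec (motive := fun _ => Nat) (Bool.rec (motive := fun _ => Nat) (Bool.rec (motive := fun _ => Nat) 0x0 0x0 (Nat.ble 369 i)) (Bool.rec (motive := fun _ => Nat) 0x0 0x0 (Nat.ble 371 i)) (Nat.ble 370 i)) (Bool.rec (motive := fun _ => Nat) (Bool.rec (motive := fun _ => Nat) 0x0 0x0 (Nat.ble 373 i)) (Bool.rec (motive := fun _ => Nat) 0x0 0x0 (Nat.ble 375 i)) (Nat.ble 374 i)) (Nat.ble 372 i)) (Bool.rec (motive := fun _ => Nat) (Bool.rec (motive := fun _ => Nat) (Bool.rec (motive := fun _ => Nat) 0x0 0x0 (Nat.ble 377 i)) (Bool.rec (motive := fun _ => Nat) 0x0 0x0 (Nat.ble 379 i)) (Nat.ble 378 i)) (Bool.rec (motive := fun _ => Nat) (Bool.rec (motive := fun _ => Nat) 0x0 0x0 (Nat.ble 381 i)) (Bool.rec (motive := fun _ => Nat) 0x0 0x0 (Nat.ble 383 i)) (Nat.ble 382 i)) (Nat.ble 380 i)) (Nat.ble 376 i))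
noncomputable def Inv4L24 (i : Nat) : Nat := (Bool.rec (motive := fun _ => Nat) (Bool.rec (motive := fun _ => Nat) (Bool.rec (motive := fun _ => Nat) (Bool.rec (motive := fun _ => Nat) 0x0 0x0 (Nat.ble 385 i)) (Bool.rec (motive := fun _ => Nat) 0x0 0x0 (Nat.ble 387 i)) (Nat.ble 386 i)) (Bool.rec (motive := fun _ => Nat) (Bool.rec (motive := fun _ => Nat) 0x0 0x0 (Nat.ble 389 i)) (Bool.rec (motive := fun _ => Nat) 0x0 0x0 (Nat.ble 391 i)) (Nat.ble 390 i)) (Nat.ble 388 i)) (Bool.rec (motive := fun _ => Nat) (Bool.rec (motive := fun _ => Nat) (Bool.rec (motive := fun _ => Nat) 0x0 0x0 (Nat.ble 393 i)) (Bool.rec (motive := fun _ => Nat) 0x0 0x0 (Nat.ble 395 i)) (Nat.ble 394 i)) (Bool.rec (motive := fun _ => Nat) (Bool.rec (motive := fun _ => Nat) 0x0 0x0 (Nat.ble 397 i)) (Bool.rec (motive := fun _ => Nat) 0x0 0x0 (Nat.ble 399 i)) (Nat.ble 398 i)) (Nat.ble 396 i)) (Nat.ble 392 i))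
noncomputable def Inv4L25 (i : Nat) : Nat := (Bool.rec (motive := fun _ => Nat) (Bool.rec (motive := fun _ => Nat) (Bool.rec (motive := fun _ => Nat) (Bool.rec (motive := fun _ => Nat) 0x0 0x0 (Nat.ble 401 i)) (Bool.rec (motive := fun _ => Nat) 0x0 0x0 (Nat.ble 403 i)) (Nat.ble 402 i)) (Bool.rec (motive := fun _ => Nat) (Bool.rec (motive := fun _ => Nat) 0x0 0x0 (Nat.ble 405 i)) (Bool.rec (motive := fun _ => Nat) 0x0 0x0 (Nat.ble 407 i)) (Nat.ble 406 i)) (Nat.ble 404 i)) (Bool.rec (motive := fun _ => Nat) (Bool.rec (motive := fun _ => Nat) (Bool.rec (motive := fun _ => Nat) 0x0 0x0 (Nat.ble 409 i)) (Bool.rec (motive := fun _ => Nat) 0x0 0x0 (Nat.ble 411 i)) (Nat.ble 410 i)) (Bool.rec (motive := fun _ => Nat) (Bool.rec (motive := fun _ => Nat) 0x0 0x0 (Nat.ble 413 i)) (Bool.rec (motive := fun _ => Nat) 0x0 0x0 (Nat.ble 415 i)) (Nat.ble 414 i)) (Nat.ble 412 i)) (Nat.ble 408 i))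
noncomputable def Inv4L26 (i : Nat) : Nat := (Bool.rec (motive := fun _ => Nat) (Bool.rec (motive := fun _ => Nat) (Bool.rec (motive := fun _ => Nat) (Bool.rec (motive := fun _ => Nat) 0x0 0x0 (Nat.ble 417 i)) (Bool.rec (motive := fun _ => Nat) 0x0 0x0 (Nat.ble 419 i)) (Nat.ble 418 i)) (Bool.rec (motive := fun _ => Nat) (Bool.rec (motive := fun _ => Nat) 0x0 0x0 (Nat.ble 421 i)) (Bool.rec (motive := fun _ => Nat) 0x0 0x0 (Nat.ble 423 i)) (Nat.ble 422 i)) (Nat.ble 420 i)) (Bool.rec (motive := fun _ => Nat) (Bool.rec (motive := fun _ => Nat) (Bool.rec (motive := fun _ => Nat) 0x0 0x0 (Nat.ble 425 i)) (Bool.rec (motive := fun _ => Nat) 0x0 0x0 (Nat.ble 427 i)) (Nat.ble 426 i)) (Bool.rec (motive := fun _ => Nat) (Bool.rec (motive := fun _ => Nat) 0x0 0x0 (Nat.ble 429 i)) (Bool.rec (motive := fun _ => Nat) 0x0 0x0 (Nat.ble 431 i)) (Nat.ble 430 i)) (Nat.ble 428 i)) (Nat.ble 424 i))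
noncomputable def Inv4L27 (i : Nat) : Nat := (Bool.rec (motive := fun _ => Nat) (Bool.rec (motive := fun _ => Nat) (Bool.rec (motive := fun _ => Nat) (Bool.rec (motive := fun _ => Nat) 0x0 0x0 (Nat.ble 433 i)) (Bool.rec (motive := fun _ => Nat) 0x0 0x0 (Nat.ble 435 i)) (Nat.ble 434 i)) (Bool.rec (motive := fun _ => Nat) (Bool.rec (motive := fun _ => Nat) 0x0 0x0 (Nat.ble 437 i)) (Bool.rec (motive := fun _ => Nat) 0x0 0x0 (Nat.ble 439 i)) (Nat.ble 438 i)) (Nat.ble 436 i)) (Bool.rec (motive := fun _ => Nat) (Bool.rec (motive := fun _ => Nat) (Bool.rec (motive := fun _ => Nat) 0x0 0x0 (Nat.ble 441 i)) (Bool.rec (motive := fun _ => Nat) 0x0 0x0 (Nat.ble 443 i)) (Nat.ble 442 i)) (Bool.rec (motive := fun _ => Nat) (Bool.rec (motive := fun _ => Nat) 0x0 0x0 (Nat.ble 445 i)) (Bool.rec (motive := fun _ => Nat) 0x0 0x0 (Nat.ble 447 i)) (Nat.ble 446 i)) (Nat.ble 444 i)) (Nat.ble 440 i))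
noncomputable def Inv4L28 (i : Nat) : Nat := (Bool.rec (motive := fun _ => Nat) (Bool.rec (motive := fun _ => Nat) (Bool.rec (motive := fun _ => Nat) (Bool.rec (motive := fun _ => Nat) 0x0 0x0 (Nat.ble 449 i)) (Bool.rec (motive := fun _ => Nat) 0x0 0x0 (Nat.ble 451 i)) (Nat.ble 450 i)) (Bool.rec (motive := fun _ => Nat) (Bool.rec (motive := fun _ => Nat) 0x0 0x0 (Nat.ble 453 i)) (Bool.rec (motive := fun _ => Nat) 0x0 0x0 (Nat.ble 455 i)) (Nat.ble 454 i)) (Nat.ble 452 i)) (Bool.rec (motive := fun _ => Nat) (Bool.rec (motive := fun _ => Nat) (Bool.rec (motive := fun _ => Nat) 0x0 0x0 (Nat.ble 457 i)) (Bool.rec (motive := fun _ => Nat) 0x0 0x0 (Nat.ble 459 i)) (Nat.ble 458 i)) (Bool.rec (motive := fun _ => Nat) (Bool.rec (motive := fun _ => Nat) 0x0 0x0 (Nat.ble 461 i)) (Bool.rec (motive := fun _ => Nat) 0x0 0x0 (Nat.ble 463 i)) (Nat.ble 462 i)) (Nat.ble 460 i)) (Nat.ble 456 i))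
noncomputable def Inv4L29 (i : Nat) : Nat := (Bool.rec (motive := fun _ => Nat) (Bool.rec (motive := fun _ => Nat) (Bool.rec (motive := fun _ => Nat) (Bool.rec (motive := fun _ => Nat) 0x0 0x0 (Nat.ble 465 i)) (Bool.rec (motive := fun _ => Nat) 0x0 0x0 (Nat.ble 467 i)) (Nat.ble 466 i)) (Bool.rec (motive := fun _ => Nat) (Bool.rec (motive := fun _ => Nat) 0x0 0x0 (Nat.ble 469 i)) (Bool.rec (motive := fun _ => Nat) 0x0 0x0 (Nat.ble 471 i)) (Nat.ble 470 i)) (Nat.ble 468 i)) (Bool.rec (motive := fun _ => Nat) (Bool.rec (motive := fun _ => Nat) (Bool.rec (motive := fun _ => Nat) 0x0 0x0 (Nat.ble 473 i)) (Bool.rec (motive := fun _ => Nat) 0x0 0x0 (Nat.ble 475 i)) (Nat.ble 474 i)) (Bool.rec (motive := fun _ => Nat) (Bool.rec (motive := fun _ => Nat) 0x0 0x0 (Nat.ble 477 i)) (Bool.rec (motive := fun _ => Nat) 0x0 0x0 (Nat.ble 479 i)) (Nat.ble 478 i)) (Nat.ble 476 i)) (Nat.ble 472 i))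
noncomputable def Inv4L30 (i : Nat) : Nat := (Bool.rec (motive := fun _ => Nat) (Bool.rec (motive := fun _ => Nat) (Bool.rec (motive := fun _ => Nat) (Bool.rec (motive := fun _ => Nat) 0x0 0x0 (Nat.ble 481 i)) (Bool.rec (motive := fun _ => Nat) 0x0 0x0 (Nat.ble 483 i)) (Nat.ble 482 i)) (Bool.rec (motive := fun _ => Nat) (Bool.rec (motive := fun _ => Nat) 0x0 0x0 (Nat.ble 485 i)) (Bool.rec (motive := fun _ => Nat) 0x0 0x0 (Nat.ble 487 i)) (Nat.ble 486 i)) (Nat.ble 484 i)) (Bool.rec (motive := fun _ => Nat) (Bool.rec (motive := fun _ => Nat) (Bool.rec (motive := fun _ => Nat) 0x0 0x0 (Nat.ble 489 i)) (Bool.rec (motive := fun _ => Nat) 0x0 0x0 (Nat.ble 491 i)) (Nat.ble 490 i)) (Bool.rec (motive := fun _ => Nat) (Bool.rec (motive := fun _ => Nat) 0x0 0x0 (Nat.ble 493 i)) (Bool.rec (motive := fun _ => Nat) 0x0 0x0 (Nat.ble 495 i)) (Nat.ble 494 i)) (Nat.ble 492 i)) (Nat.ble 488 i))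
noncomputable def Inv4L31 (i : Nat) : Nat := (Bool.rec (motive := fun _ => Nat) (Bool.rec (motive := fun _ => Nat) (Bool.rec (motive := fun _ => Nat) (Bool.rec (motive := fun _ => Nat) 0x0 0x0 (Nat.ble 497 i)) (Bool.rec (motive := fun _ => Nat) 0x0 0x0 (Nat.ble 499 i)) (Nat.ble 498 i)) (Bool.rec (motive := fun _ => Nat) (Bool.rec (motive := fun _ => Nat) 0x0 0x0 (Nat.ble 501 i)) (Bool.rec (motive := fun _ => Nat) 0x0 0x0 (Nat.ble 503 i)) (Nat.ble 502 i)) (Nat.ble 500 i)) (Bool.rec (motive := fun _ => Nat) (Bool.rec (motive := fun _ => Nat) (Bool.rec (motive := fun _ => Nat) 0x0 0x0 (Nat.ble 505 i)) (Bool.rec (motive := fun _ => Nat) 0x0 0x0 (Nat.ble 507 i)) (Nat.ble 506 i)) (Bool.rec (motive := fun _ => Nat) (Bool.rec (motive := fun _ => Nat) 0x0 0x0 (Nat.ble 509 i)) (Bool.rec (motive := fun _ => Nat) 0x0 0x0 (Nat.ble 511 i)) (Nat.ble 510 i)) (Nat.ble 508 i)) (Nat.ble 504 i))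
noncomputable def Inv4L32 (i : Nat) : Nat := (Bool.rec (motive := fun _ => Nat) (Bool.rec (motive := fun _ => Nat) (Bool.rec (motive := fun _ => Nat) (Bool.rec (motive := fun _ => Nat) 0x0 0x0 (Nat.ble 513 i)) (Bool.rec (motive := fun _ => Nat) 0x0 0x0 (Nat.ble 515 i)) (Nat.ble 514 i)) (Bool.rec (motive := fun _ => Nat) (Bool.rec (motive := fun _ => Nat) 0x0 0x0 (Nat.ble 517 i)) (Bool.rec (motive := fun _ => Nat) 0x0 0x0 (Nat.ble 519 i)) (Nat.ble 518 i)) (Nat.ble 516 i)) (Bool.rec (motive := fun _ => Nat) (Bool.rec (motive := fun _ => Nat) (Bool.rec (motive := fun _ => Nat) 0x0 0x0 (Nat.ble 521 i)) (Bool.rec (motive := fun _ => Nat) 0x0 0x0 (Nat.ble 523 i)) (Nat.ble 522 i)) (Bool.rec (motive := fun _ => Nat) (Bool.rec (motive := fun _ => Nat) 0x0 0x0 (Nat.ble 525 i)) (Bool.rec (motive := fun _ => Nat) 0x0 0x0 (Nat.ble 527 i)) (Nat.ble 526 i)) (Nat.ble 524 i)) (Nat.ble 520 i))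
noncomputable def Inv4L33 (i : Nat) : Nat := (Bool.rec (motive := fun _ => Nat) (Bool.rec (motive := fun _ => Nat) (Bool.rec (motive := fun _ => Nat) (Bool.rec (motive := fun _ => Nat) 0x0 0x0 (Nat.ble 529 i)) (Bool.rec (motive := fun _ => Nat) 0x0 0x0 (Nat.ble 531 i)) (Nat.ble 530 i)) (Bool.rec (motive := fun _ => Nat) (Bool.rec (motive := fun _ => Nat) 0x0 0x0 (Nat.ble 533 i)) (Bool.rec (motive := fun _ => Nat) 0x0 0x0 (Nat.ble 535 i)) (Nat.ble 534 i)) (Nat.ble 532 i)) (Bool.rec (motive := fun _ => Nat) (Bool.rec (motive := fun _ => Nat) (Bool.rec (motive := fun _ => Nat) 0x0 0x0 (Nat.ble 537 i)) (Bool.rec (motive := fun _ => Nat) 0x0 0x0 (Nat.ble 539 i)) (Nat.ble 538 i)) (Bool.rec (motive := fun _ => Nat) (Bool.rec (motive := fun _ => Nat) 0x0 0x0 (Nat.ble 541 i)) (Bool.rec (motive := fun _ => Nat) 0x0 0x0 (Nat.ble 543 i)) (Nat.ble 542 i)) (Nat.ble 540 i)) (Nat.ble 536 i))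
noncomputable def Inv4L34 (i : Nat) : Nat := (Bool.rec (motive := fun _ => Nat) (Bool.rec (motive := fun _ => Nat) (Bool.rec (motive := fun _ => Nat) (Bool.rec (motive := fun _ => Nat) 0x0 0x0 (Nat.ble 545 i)) (Bool.rec (motive := fun _ => Nat) 0x0 0x0 (Nat.ble 547 i)) (Nat.ble 546 i)) (Bool.rec (motive := fun _ => Nat) (Bool.rec (motive := fun _ => Nat) 0x0 0x0 (Nat.ble 549 i)) (Bool.rec (motive := fun _ => Nat) 0x0 0x0 (Nat.ble 551 i)) (Nat.ble 550 i)) (Nat.ble 548 i)) (Bool.rec (motive := fun _ => Nat) (Bool.rec (motive := fun _ => Nat) (Bool.rec (motive := fun _ => Nat) 0x0 0x0 (Nat.ble 553 i)) (Bool.rec (motive := fun _ => Nat) 0x0 0x0 (Nat.ble 555 i)) (Nat.ble 554 i)) (Bool.rec (motive := fun _ => Nat) (Bool.rec (motive := fun _ => Nat) 0x0 0x0 (Nat.ble 557 i)) (Bool.rec (motive := fun _ => Nat) 0x0 0x0 (Nat.ble 559 i)) (Nat.ble 558 i)) (Nat.ble 556 i)) (Nat.ble 552 i))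
noncomputable def Inv4L35 (i : Nat) : Nat := (Bool.rec (motive := fun _ => Nat) (Bool.rec (motive := fun _ => Nat) (Bool.rec (motive := fun _ => Nat) (Bool.rec (motive := fun _ => Nat) 0x0 0x0 (Nat.ble 561 i)) (Bool.rec (motive := fun _ => Nat) 0x0 0x0 (Nat.ble 563 i)) (Nat.ble 562 i)) (Bool.rec (motive := fun _ => Nat) (Bool.rec (motive := fun _ => Nat) 0x0 0x0 (Nat.ble 565 i)) (Bool.rec (motive := fun _ => Nat) 0x0 0x0 (Nat.ble 567 i)) (Nat.ble 566 i)) (Nat.ble 564 i)) (Bool.rec (motive := fun _ => Nat) (Bool.rec (motive := fun _ => Nat) (Bool.rec (motive := fun _ => Nat) 0x0 0x0 (Nat.ble 569 i)) (Bool.rec (motive := fun _ => Nat) 0x0 0x0 (Nat.ble 571 i)) (Nat.ble 570 i)) (Bool.rec (motive := fun _ => Nat) (Bool.rec (motive := fun _ => Nat) 0x0 0x0 (Nat.ble 573 i)) (Bool.rec (motive := fun _ => Nat) 0x0 0x0 (Nat.ble 575 i)) (Nat.ble 574 i)) (Nat.ble 572 i)) (Nat.ble 568 i))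
noncomputable def Inv4L36 (i : Nat) : Nat := (Bool.rec (motive := fun _ => Nat) (Bool.rec (motive := fun _ => Nat) (Bool.rec (motive := fun _ => Nat) (Bool.rec (motive := fun _ => Nat) 0x0 0x0 (Nat.ble 577 i)) (Bool.rec (motive := fun _ => Nat) 0x0 0x0 (Nat.ble 579 i)) (Nat.ble 578 i)) (Bool.rec (motive := fun _ => Nat) (Bool.rec (motive := fun _ => Nat) 0x0 0x0 (Nat.ble 581 i)) (Bool.rec (motive := fun _ => Nat) 0x0 0x0 (Nat.ble 583 i)) (Nat.ble 582 i)) (Nat.ble 580 i)) (Bool.rec (motive := fun _ => Nat) (Bool.rec (motive := fun _ => Nat) (Bool.rec (motive := fun _ => Nat) 0x0 0x0 (Nat.ble 585 i)) (Bool.rec (motive := fun _ => Nat) 0x0 0x0 (Nat.ble 587 i)) (Nat.ble 586 i)) (Bool.rec (motive := fun _ => Nat) (Bool.rec (motive := fun _ => Nat) 0x0 0x0 (Nat.ble 589 i)) (Bool.rec (motive := fun _ => Nat) 0x0 0x0 (Nat.ble 591 i)) (Nat.ble 590 i)) (Nat.ble 588 i)) (Nat.ble 584 i))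
noncomputable def Inv4L37 (i : Nat) : Nat := (Bool.rec (motive := fun _ => Nat) (Bool.rec (motive := fun _ => Nat) (Bool.rec (motive := fun _ => Nat) (Bool.rec (motive := fun _ => Nat) 0x0 0x0 (Nat.ble 593 i)) (Bool.rec (motive := fun _ => Nat) 0x0 0x0 (Nat.ble 595 i)) (Nat.ble 594 i)) (Bool.rec (motive := fun _ => Nat) (Bool.rec (motive := fun _ => Nat) 0x0 0x0 (Nat.ble 597 i)) (Bool.rec (motive := fun _ => Nat) 0x0 0x0 (Nat.ble 599 i)) (Nat.ble 598 i)) (Nat.ble 596 i)) (Bool.rec (motive := fun _ => Nat) (Bool.rec (motive := fun _ => Nat) (Bool.rec (motive := fun _ => Nat) 0x0 0x0 (Nat.ble 601 i)) (Bool.rec (motive := fun _ => Nat) 0x0 0x0 (Nat.ble 603 i)) (Nat.ble 602 i)) (Bool.rec (motive := fun _ => Nat) (Bool.rec (motive := fun _ => Nat) 0x0 0x0 (Nat.ble 605 i)) (Bool.rec (motive := fun _ => Nat) 0x0 0x0 (Nat.ble 607 i)) (Nat.ble 606 i)) (Nat.ble 604 i)) (Nat.ble 600 i))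
noncomputable def Inv4L38 (i : Nat) : Nat := (Bool.rec (motive := fun _ => Nat) (Bool.rec (motive := fun _ => Nat) (Bool.rec (motive := fun _ => Nat) (Bool.rec (motive := fun _ => Nat) 0x0 0x0 (Nat.ble 609 i)) (Bool.rec (motive := fun _ => Nat) 0x0 0x0 (Nat.ble 611 i)) (Nat.ble 610 i)) (Bool.rec (motive := fun _ => Nat) (Bool.rec (motive := fun _ => Nat) 0x0 0x0 (Nat.ble 613 i)) (Bool.rec (motive := fun _ => Nat) 0x0 0x0 (Nat.ble 615 i)) (Nat.ble 614 i)) (Nat.ble 612 i)) (Bool.rec (motive := fun _ => Nat) (Bool.rec (motive := fun _ => Nat) (Bool.rec (motive := fun _ => Nat) 0x0 0x0 (Nat.ble 617 i)) (Bool.rec (motive := fun _ => Nat) 0x0 0x0 (Nat.ble 619 i)) (Nat.ble 618 i)) (Bool.rec (motive := fun _ => Nat) (Bool.rec (motive := fun _ => Nat) 0x0 0x0 (Nat.ble 621 i)) (Bool.rec (motive := fun _ => Nat) 0x0 0x0 (Nat.ble 623 i)) (Nat.ble 622 i)) (Nat.ble 620 i)) (Nat.ble 616 i))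
noncomputable def Inv4L39 (i : Nat) : Nat := (Bool.rec (motive := fun _ => Nat) (Bool.rec (motive := fun _ => Nat) (Bool.rec (motive := fun _ => Nat) (Bool.rec (motive := fun _ => Nat) 0x0 0x0 (Nat.ble 625 i)) (Bool.rec (motive := fun _ => Nat) 0x0 0x0 (Nat.ble 627 i)) (Nat.ble 626 i)) (Bool.rec (motive := fun _ => Nat) (Bool.rec (motive := fun _ => Nat) 0x0 0x0 (Nat.ble 629 i)) (Bool.rec (motive := fun _ => Nat) 0x0 0x0 (Nat.ble 631 i)) (Nat.ble 630 i)) (Nat.ble 628 i)) (Bool.rec (motive := fun _ => Nat) (Bool.rec (motive := fun _ => Nat) (Bool.rec (motive := fun _ => Nat) 0x0 0x0 (Nat.ble 633 i)) (Bool.rec (motive := fun _ => Nat) 0x0 0x0 (Nat.ble 635 i)) (Nat.ble 634 i)) (Bool.rec (motive := fun _ => Nat) (Bool.rec (motive := fun _ => Nat) 0x0 0x0 (Nat.ble 637 i)) (Bool.rec (motive := fun _ => Nat) 0x0 0x0 (Nat.ble 639 i)) (Nat.ble 638 i)) (Nat.ble 636 i)) (Nat.ble 632 i))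
noncomputable def Inv4L40 (i : Nat) : Nat := (Bool.rec (motive := fun _ => Nat) (Bool.rec (motive := fun _ => Nat) (Bool.rec (motive := fun _ => Nat) (Bool.rec (motive := fun _ => Nat) 0x0 0x0 (Nat.ble 641 i)) (Bool.rec (motive := fun _ => Nat) 0x0 0x0 (Nat.ble 643 i)) (Nat.ble 642 i)) (Bool.rec (motive := fun _ => Nat) (Bool.rec (motive := fun _ => Nat) 0x0 0x0 (Nat.ble 645 i)) (Bool.rec (motive := fun _ => Nat) 0x0 0x0 (Nat.ble 647 i)) (Nat.ble 646 i)) (Nat.ble 644 i)) (Bool.rec (motive := fun _ => Nat) (Bool.rec (motive := fun _ => Nat) (Bool.rec (motive := fun _ => Nat) 0x0 0x0 (Nat.ble 649 i)) (Bool.rec (motive := fun _ => Nat) 0x0 0x0 (Nat.ble 651 i)) (Nat.ble 650 i)) (Bool.rec (motive := fun _ => Nat) (Bool.rec (motive := fun _ => Nat) 0x0 0x0 (Nat.ble 653 i)) (Bool.rec (motive := fun _ => Nat) 0x0 0x0 (Nat.ble 655 i)) (Nat.ble 654 i)) (Nat.ble 652 i)) (Nat.ble 648 i))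
noncomputable def Inv4L41 (i : Nat) : Nat := (Bool.rec (motive := fun _ => Nat) (Bool.rec (motive := fun _ => Nat) (Bool.rec (motive := fun _ => Nat) (Bool.rec (motive := fun _ => Nat) 0x0 0x0 (Nat.ble 657 i)) (Bool.rec (motive := fun _ => Nat) 0x0 0x0 (Nat.ble 659 i)) (Nat.ble 658 i)) (Bool.rec (motive := fun _ => Nat) (Bool.rec (motive := fun _ => Nat) 0x0 0x0 (Nat.ble 661 i)) (Bool.rec (motive := fun _ => Nat) 0x0 0x0 (Nat.ble 663 i)) (Nat.ble 662 i)) (Nat.ble 660 i)) (Bool.rec (motive := fun _ => Nat) (Bool.rec (motive := fun _ => Nat) (Bool.rec (motive := fun _ => Nat) 0x0 0x0 (Nat.ble 665 i)) (Bool.rec (motive := fun _ => Nat) 0x0 0x0 (Nat.ble 667 i)) (Nat.ble 666 i)) (Bool.rec (motive := fun _ => Nat) (Bool.rec (motive := fun _ => Nat) 0x0 0x0 (Nat.ble 669 i)) (Bool.rec (motive := fun _ => Nat) 0x0 0x0 (Nat.ble 671 i)) (Nat.ble 670 i)) (Nat.ble 668 i)) (Nat.ble 664 i))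
noncomputable def Inv4L42 (i : Nat) : Nat := (Bool.rec (motive := fun _ => Nat) (Bool.rec (motive := fun _ => Nat) (Bool.rec (motive := fun _ => Nat) (Bool.rec (motive := fun _ => Nat) 0x0 0x0 (Nat.ble 673 i)) (Bool.rec (motive := fun _ => Nat) 0x0 0x0 (Nat.ble 675 i)) (Nat.ble 674 i)) (Bool.rec (motive := fun _ => Nat) (Bool.rec (motive := fun _ => Nat) 0x0 0x0 (Nat.ble 677 i)) (Bool.rec (motive := fun _ => Nat) 0x0 0x0 (Nat.ble 679 i)) (Nat.ble 678 i)) (Nat.ble 676 i)) (Bool.rec (motive := fun _ => Nat) (Bool.rec (motive := fun _ => Nat) (Bool.rec (motive := fun _ => Nat) 0x0 0x0 (Nat.ble 681 i)) (Bool.rec (motive := fun _ => Nat) 0x0 0x0 (Nat.ble 683 i)) (Nat.ble 682 i)) (Bool.rec (motive := fun _ => Nat) (Bool.rec (motive := fun _ => Nat) 0x0 0x0 (Nat.ble 685 i)) (Bool.rec (motive := fun _ => Nat) 0x0 0x0 (Nat.ble 687 i)) (Nat.ble 686 i)) (Nat.ble 684 i)) (Nat.ble 680 i))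
noncomputable def Inv4L43 (i : Nat) : Nat := (Bool.rec (motive := fun _ => Nat) (Bool.rec (motive := fun _ => Nat) (Bool.rec (motive := fun _ => Nat) (Bool.rec (motive := fun _ => Nat) 0x0 0x0 (Nat.ble 689 i)) (Bool.rec (motive := fun _ => Nat) 0x0 0x0 (Nat.ble 691 i)) (Nat.ble 690 i)) (Bool.rec (motive := fun _ => Nat) (Bool.rec (motive := fun _ => Nat) 0x0 0x0 (Nat.ble 693 i)) (Bool.rec (motive := fun _ => Nat) 0x0 0x0 (Nat.ble 695 i)) (Nat.ble 694 i)) (Nat.ble 692 i)) (Bool.rec (motive := fun _ => Nat) (Bool.rec (motive := fun _ => Nat) (Bool.rec (motive := fun _ => Nat) 0x0 0x0 (Nat.ble 697 i)) (Bool.rec (motive := fun _ => Nat) 0x0 0x0 (Nat.ble 699 i)) (Nat.ble 698 i)) (Bool.rec (motive := fun _ => Nat) (Bool.rec (motive := fun _ => Nat) 0x0 0x0 (Nat.ble 701 i)) (Bool.rec (motive := fun _ => Nat) 0x0 0x0 (Nat.ble 703 i)) (Nat.ble 702 i)) (Nat.ble 700 i)) (Nat.ble 696 i))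
noncomputable def Inv4L44 (i : Nat) : Nat := (Bool.rec (motive := fun _ => Nat) (Bool.rec (motive := fun _ => Nat) (Bool.rec (motive := fun _ => Nat) (Bool.rec (motive := fun _ => Nat) 0x0 0x0 (Nat.ble 705 i)) (Bool.rec (motive := fun _ => Nat) 0x0 0x0 (Nat.ble 707 i)) (Nat.ble 706 i)) (Bool.rec (motive := fun _ => Nat) (Bool.rec (motive := fun _ => Nat) 0x0 0x0 (Nat.ble 709 i)) (Bool.rec (motive := fun _ => Nat) 0x0 0x0 (Nat.ble 711 i)) (Nat.ble 710 i)) (Nat.ble 708 i)) (Bool.rec (motive := fun _ => Nat) (Bool.rec (motive := fun _ => Nat) (Bool.rec (motive := fun _ => Nat) 0x0 0x0 (Nat.ble 713 i)) (Bool.rec (motive := fun _ => Nat) 0x0 0x0 (Nat.ble 715 i)) (Nat.ble 714 i)) (Bool.rec (motive := fun _ => Nat) (Bool.rec (motive := fun _ => Nat) 0x0 0x0 (Nat.ble 717 i)) (Bool.rec (motive := fun _ => Nat) 0x0 0x0 (Nat.ble 719 i)) (Nat.ble 718 i)) (Nat.ble 716 i)) (Nat.ble 712 i))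
noncomputable def Inv4L45 (i : Nat) : Nat := (Bool.rec (motive := fun _ => Nat) (Bool.rec (motive := fun _ => Nat) (Bool.rec (motive := fun _ => Nat) (Bool.rec (motive := fun _ => Nat) 0x0 0x0 (Nat.ble 721 i)) (Bool.rec (motive := fun _ => Nat) 0x0 0x0 (Nat.ble 723 i)) (Nat.ble 722 i)) (Bool.rec (motive := fun _ => Nat) (Bool.rec (motive := fun _ => Nat) 0x0 0x0 (Nat.ble 725 i)) (Bool.rec (motive := fun _ => Nat) 0x0 0x0 (Nat.ble 727 i)) (Nat.ble 726 i)) (Nat.ble 724 i)) (Bool.rec (motive := fun _ => Nat) (Bool.rec (motive := fun _ => Nat) (Bool.rec (motive := fun _ => Nat) 0x0 0x0 (Nat.ble 729 i)) (Bool.rec (motive := fun _ => Nat) 0x0 0x0 (Nat.ble 731 i)) (Nat.ble 730 i)) (Bool.rec (motive := fun _ => Nat) (Bool.rec (motive := fun _ => Nat) 0x0 0x0 (Nat.ble 733 i)) (Bool.rec (motive := fun _ => Nat) 0x0 0x0 (Nat.ble 735 i)) (Nat.ble 734 i)) (Nat.ble 732 i)) (Nat.ble 728 i))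
noncomputable def Inv4L46 (i : Nat) : Nat := (Bool.rec (motive := fun _ => Nat) (Bool.rec (motive := fun _ => Nat) (Bool.rec (motive := fun _ => Nat) (Bool.rec (motive := fun _ => Nat) 0x0 0x0 (Nat.ble 737 i)) (Bool.rec (motive := fun _ => Nat) 0x0 0x0 (Nat.ble 739 i)) (Nat.ble 738 i)) (Bool.rec (motive := fun _ => Nat) (Bool.rec (motive := fun _ => Nat) 0x0 0x0 (Nat.ble 741 i)) (Bool.rec (motive := fun _ => Nat) 0x0 0x0 (Nat.ble 743 i)) (Nat.ble 742 i)) (Nat.ble 740 i)) (Bool.rec (motive := fun _ => Nat) (Bool.rec (motive := fun _ => Nat) (Bool.rec (motive := fun _ => Nat) 0x0 0x0 (Nat.ble 745 i)) (Bool.rec (motive := fun _ => Nat) 0x0 0x0 (Nat.ble 747 i)) (Nat.ble 746 i)) (Bool.rec (motive := fun _ => Nat) (Bool.rec (motive := fun _ => Nat) 0x0 0x0 (Nat.ble 749 i)) (Bool.rec (motive := fun _ => Nat) 0x0 0x0 (Nat.ble 751 i)) (Nat.ble 750 i)) (Nat.ble 748 i)) (Nat.ble 744 i))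
noncomputable def Inv4L47 (i : Nat) : Nat := (Bool.rec (motive := fun _ => Nat) (Bool.rec (motive := fun _ => Nat) (Bool.rec (motive := fun _ => Nat) (Bool.rec (motive := fun _ => Nat) 0x0 0x0 (Nat.ble 753 i)) (Bool.rec (motive := fun _ => Nat) 0x0 0x0 (Nat.ble 755 i)) (Nat.ble 754 i)) (Bool.rec (motive := fun _ => Nat) (Bool.rec (motive := fun _ => Nat) 0x0 0x0 (Nat.ble 757 i)) (Bool.rec (motive := fun _ => Nat) 0x0 0x0 (Nat.ble 759 i)) (Nat.ble 758 i)) (Nat.ble 756 i)) (Bool.rec (motive := fun _ => Nat) (Bool.rec (motive := fun _ => Nat) (Bool.rec (motive := fun _ => Nat) 0x0 0x0 (Nat.ble 761 i)) (Bool.rec (motive := fun _ => Nat) 0x0 0x0 (Nat.ble 763 i)) (Nat.ble 762 i)) (Bool.rec (motive := fun _ => Nat) (Bool.rec (motive := fun _ => Nat) 0x0 0x0 (Nat.ble 765 i)) (Bool.rec (motive := fun _ => Nat) 0x0 0x0 (Nat.ble 767 i)) (Nat.ble 766 i)) (Nat.ble 764 i)) (Nat.ble 760 i))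
noncomputable def Inv4L48 (i : Nat) : Nat := (Bool.rec (motive := fun _ => Nat) (Bool.rec (motive := fun _ => Nat) (Bool.rec (motive := fun _ => Nat) (Bool.rec (motive := fun _ => Nat) 0x0 0x0 (Nat.ble 769 i)) (Bool.rec (motive := fun _ => Nat) 0x0 0x0 (Nat.ble 771 i)) (Nat.ble 770 i)) (Bool.rec (motive := fun _ => Nat) (Bool.rec (motive := fun _ => Nat) 0x0 0x0 (Nat.ble 773 i)) (Bool.rec (motive := fun _ => Nat) 0x0 0x0 (Nat.ble 775 i)) (Nat.ble 774 i)) (Nat.ble 772 i)) (Bool.rec (motive := fun _ => Nat) (Bool.rec (motive := fun _ => Nat) (Bool.rec (motive := fun _ => Nat) 0x0 0x0 (Nat.ble 777 i)) (Bool.rec (motive := fun _ => Nat) 0x0 0x0 (Nat.ble 779 i)) (Nat.ble 778 i)) (Bool.rec (motive := fun _ => Nat) (Bool.rec (motive := fun _ => Nat) 0x0 0x0 (Nat.ble 781 i)) (Bool.rec (motive := fun _ => Nat) 0x0 0x0 (Nat.ble 783 i)) (Nat.ble 782 i)) (Nat.ble 780 i)) (Nat.ble 776 i))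
noncomputable def Inv4L49 (i : Nat) : Nat := (Bool.rec (motive := fun _ => Nat) (Bool.rec (motive := fun _ => Nat) (Bool.rec (motive := fun _ => Nat) (Bool.rec (motive := fun _ => Nat) 0x0 0x0 (Nat.ble 785 i)) (Bool.rec (motive := fun _ => Nat) 0x0 0x0 (Nat.ble 787 i)) (Nat.ble 786 i)) (Bool.rec (motive := fun _ => Nat) (Bool.rec (motive := fun _ => Nat) 0x0 0x0 (Nat.ble 789 i)) (Bool.rec (motive := fun _ => Nat) 0x0 0x0 (Nat.ble 791 i)) (Nat.ble 790 i)) (Nat.ble 788 i)) (Bool.rec (motive := fun _ => Nat) (Bool.rec (motive := fun _ => Nat) (Bool.rec (motive := fun _ => Nat) 0x0 0x0 (Nat.ble 793 i)) (Bool.rec (motive := fun _ => Nat) 0x0 0x0 (Nat.ble 795 i)) (Nat.ble 794 i)) (Bool.rec (motive := fun _ => Nat) (Bool.rec (motive := fun _ => Nat) 0x0 0x0 (Nat.ble 797 i)) (Bool.rec (motive := fun _ => Nat) 0x0 0x0 (Nat.ble 799 i)) (Nat.ble 798 i)) (Nat.ble 796 i)) (Nat.ble 792 i))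
noncomputable def Inv4L50 (i : Nat) : Nat := (Bool.rec (motive := fun _ => Nat) (Bool.rec (motive := fun _ => Nat) (Bool.rec (motive := fun _ => Nat) (Bool.rec (motive := fun _ => Nat) 0x0 0x0 (Nat.ble 801 i)) (Bool.rec (motive := fun _ => Nat) 0x0 0x0 (Nat.ble 803 i)) (Nat.ble 802 i)) (Bool.rec (motive := fun _ => Nat) (Bool.rec (motive := fun _ => Nat) 0x0 0x0 (Nat.ble 805 i)) (Bool.rec (motive := fun _ => Nat) 0x0 0x0 (Nat.ble 807 i)) (Nat.ble 806 i)) (Nat.ble 804 i)) (Bool.rec (motive := fun _ => Nat) (Bool.rec (motive := fun _ => Nat) (Bool.rec (motive := fun _ => Nat) 0x0 0x0 (Nat.ble 809 i)) (Bool.rec (motive := fun _ => Nat) 0x0 0x0 (Nat.ble 811 i)) (Nat.ble 810 i)) (Bool.rec (motive := fun _ => Nat) (Bool.rec (motive := fun _ => Nat) 0x0 0x0 (Nat.ble 813 i)) (Bool.rec (motive := fun _ => Nat) 0x0 0x0 (Nat.ble 815 i)) (Nat.ble 814 i)) (Nat.ble 812 i)) (Nat.ble 808 i))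
noncomputable def Inv4L51 (i : Nat) : Nat := (Bool.rec (motive := fun _ => Nat) (Bool.rec (motive := fun _ => Nat) (Bool.rec (motive := fun _ => Nat) (Bool.rec (motive := fun _ => Nat) 0x0 0x0 (Nat.ble 817 i)) (Bool.rec (motive := fun _ => Nat) 0x0 0x0 (Nat.ble 819 i)) (Nat.ble 818 i)) (Bool.rec (motive := fun _ => Nat) (Bool.rec (motive := fun _ => Nat) 0x0 0x0 (Nat.ble 821 i)) (Bool.rec (motive := fun _ => Nat) 0x0 0x0 (Nat.ble 823 i)) (Nat.ble 822 i)) (Nat.ble 820 i)) (Bool.rec (motive := fun _ => Nat) (Bool.rec (motive := fun _ => Nat) (Bool.rec (motive := fun _ => Nat) 0x0 0x0 (Nat.ble 825 i)) (Bool.rec (motive := fun _ => Nat) 0x0 0x0 (Nat.ble 827 i)) (Nat.ble 826 i)) (Bool.rec (motive := fun _ => Nat) (Bool.rec (motive := fun _ => Nat) 0x0 0x0 (Nat.ble 829 i)) (Bool.rec (motive := fun _ => Nat) 0x0 0x0 (Nat.ble 831 i)) (Nat.ble 830 i)) (Nat.ble 828 i)) (Nat.ble 824 i))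
noncomputable def Inv4L52 (i : Nat) : Nat := (Bool.rec (motive := fun _ => Nat) (Bool.rec (motive := fun _ => Nat) (Bool.rec (motive := fun _ => Nat) (Bool.rec (motive := fun _ => Nat) 0x0 0x0 (Nat.ble 833 i)) (Bool.rec (motive := fun _ => Nat) 0x0 0x0 (Nat.ble 835 i)) (Nat.ble 834 i)) (Bool.rec (motive := fun _ => Nat) (Bool.rec (motive := fun _ => Nat) 0x0 0x0 (Nat.ble 837 i)) (Bool.rec (motive := fun _ => Nat) 0x0 0x0 (Nat.ble 839 i)) (Nat.ble 838 i)) (Nat.ble 836 i)) (Bool.rec (motive := fun _ => Nat) (Bool.rec (motive := fun _ => Nat) (Bool.rec (motive := fun _ => Nat) 0x0 0x0 (Nat.ble 841 i)) (Bool.rec (motive := fun _ => Nat) 0x0 0x0 (Nat.ble 843 i)) (Nat.ble 842 i)) (Bool.rec (motive := fun _ => Nat) (Bool.rec (motive := fun _ => Nat) 0x0 0x0 (Nat.ble 845 i)) (Bool.rec (motive := fun _ => Nat) 0x0 0x0 (Nat.ble 847 i)) (Nat.ble 846 i)) (Nat.ble 844 i)) (Nat.ble 840 i))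
noncomputable def Inv4L53 (i : Nat) : Nat := (Bool.rec (motive := fun _ => Nat) (Bool.rec (motive := fun _ => Nat) (Bool.rec (motive := fun _ => Nat) (Bool.rec (motive := fun _ => Nat) 0x0 0x0 (Nat.ble 849 i)) (Bool.rec (motive := fun _ => Nat) 0x0 0x0 (Nat.ble 851 i)) (Nat.ble 850 i)) (Bool.rec (motive := fun _ => Nat) (Bool.rec (motive := fun _ => Nat) 0x0 0x0 (Nat.ble 853 i)) (Bool.rec (motive := fun _ => Nat) 0x0 0x0 (Nat.ble 855 i)) (Nat.ble 854 i)) (Nat.ble 852 i)) (Bool.rec (motive := fun _ => Nat) (Bool.rec (motive := fun _ => Nat) (Bool.rec (motive := fun _ => Nat) 0x0 0x0 (Nat.ble 857 i)) (Bool.rec (motive := fun _ => Nat) 0x0 0x0 (Nat.ble 859 i)) (Nat.ble 858 i)) (Bool.rec (motive := fun _ => Nat) (Bool.rec (motive := fun _ => Nat) 0x0 0x0 (Nat.ble 861 i)) (Bool.rec (motive := fun _ => Nat) 0x0 0x0 (Nat.ble 863 i)) (Nat.ble 862 i)) (Nat.ble 860 i)) (Nat.ble 856 i))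
noncomputable def Inv4L54 (i : Nat) : Nat := (Bool.rec (motive := fun _ => Nat) (Bool.rec (motive := fun _ => Nat) (Bool.rec (motive := fun _ => Nat) (Bool.rec (motive := fun _ => Nat) 0x0 0x0 (Nat.ble 865 i)) (Bool.rec (motive := fun _ => Nat) 0x0 0x0 (Nat.ble 867 i)) (Nat.ble 866 i)) (Bool.rec (motive := fun _ => Nat) (Bool.rec (motive := fun _ => Nat) 0x0 0x0 (Nat.ble 869 i)) (Bool.rec (motive := fun _ => Nat) 0x0 0x0 (Nat.ble 871 i)) (Nat.ble 870 i)) (Nat.ble 868 i)) (Bool.rec (motive := fun _ => Nat) (Bool.rec (motive := fun _ => Nat) (Bool.rec (motive := fun _ => Nat) 0x0 0x0 (Nat.ble 873 i)) (Bool.rec (motive := fun _ => Nat) 0x0 0x0 (Nat.ble 875 i)) (Nat.ble 874 i)) (Bool.rec (motive := fun _ => Nat) (Bool.rec (motive := fun _ => Nat) 0x0 0x0 (Nat.ble 877 i)) (Bool.rec (motive := fun _ => Nat) 0x0 0x0 (Nat.ble 879 i)) (Nat.ble 878 i)) (Nat.ble 876 i)) (Nat.ble 872 i))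
noncomputable def Inv4L55 (i : Nat) : Nat := (Bool.rec (motive := fun _ => Nat) (Bool.rec (motive := fun _ => Nat) (Bool.rec (motive := fun _ => Nat) (Bool.rec (motive := fun _ => Nat) 0x0 0x0 (Nat.ble 881 i)) (Bool.rec (motive := fun _ => Nat) 0x0 0x0 (Nat.ble 883 i)) (Nat.ble 882 i)) (Bool.rec (motive := fun _ => Nat) (Bool.rec (motive := fun _ => Nat) 0x0 0x0 (Nat.ble 885 i)) (Bool.rec (motive := fun _ => Nat) 0x0 0x0 (Nat.ble 887 i)) (Nat.ble 886 i)) (Nat.ble 884 i)) (Bool.rec (motive := fun _ => Nat) (Bool.rec (motive := fun _ => Nat) (Bool.rec (motive := fun _ => Nat) 0x0 0x0 (Nat.ble 889 i)) (Bool.rec (motive := fun _ => Nat) 0x0 0x0 (Nat.ble 891 i)) (Nat.ble 890 i)) (Bool.rec (motive := fun _ => Nat) (Bool.rec (motive := fun _ => Nat) 0x0 0x0 (Nat.ble 893 i)) (Bool.rec (motive := fun _ => Nat) 0x0 0x0 (Nat.ble 895 i)) (Nat.ble 894 i)) (Nat.ble 892 i)) (Nat.ble 888 i))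
noncomputable def Inv4L56 (i : Nat) : Nat := (Bool.rec (motive := fun _ => Nat) (Bool.rec (motive := fun _ => Nat) (Bool.rec (motive := fun _ => Nat) (Bool.rec (motive := fun _ => Nat) 0x0 0x0 (Nat.ble 897 i)) (Bool.rec (motive := fun _ => Nat) 0x0 0x0 (Nat.ble 899 i)) (Nat.ble 898 i)) (Bool.rec (motive := fun _ => Nat) (Bool.rec (motive := fun _ => Nat) 0x0 0x0 (Nat.ble 901 i)) (Bool.rec (motive := fun _ => Nat) 0x0 0x0 (Nat.ble 903 i)) (Nat.ble 902 i)) (Nat.ble 900 i)) (Bool.rec (motive := fun _ => Nat) (Bool.rec (motive := fun _ => Nat) (Bool.rec (motive := fun _ => Nat) 0x0 0x0 (Nat.ble 905 i)) (Bool.rec (motive := fun _ => Nat) 0x0 0x0 (Nat.ble 907 i)) (Nat.ble 906 i)) (Bool.rec (motive := fun _ => Nat) (Bool.rec (motive := fun _ => Nat) 0x0 0x0 (Nat.ble 909 i)) (Bool.rec (motive := fun _ => Nat) 0x0 0x0 (Nat.ble 911 i)) (Nat.ble 910 i)) (Nat.ble 908 i)) (Nat.ble 904 i))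
noncomputable def Inv4L57 (i : Nat) : Nat := (Bool.rec (motive := fun _ => Nat) (Bool.rec (motive := fun _ => Nat) (Bool.rec (motive := fun _ => Nat) (Bool.rec (motive := fun _ => Nat) 0x0 0x0 (Nat.ble 913 i)) (Bool.rec (motive := fun _ => Nat) 0x0 0x0 (Nat.ble 915 i)) (Nat.ble 914 i)) (Bool.rec (motive := fun _ => Nat) (Bool.rec (motive := fun _ => Nat) 0x0 0x0 (Nat.ble 917 i)) (Bool.rec (motive := fun _ => Nat) 0x0 0x0 (Nat.ble 919 i)) (Nat.ble 918 i)) (Nat.ble 916 i)) (Bool.rec (motive := fun _ => Nat) (Bool.rec (motive := fun _ => Nat) (Bool.rec (motive := fun _ => Nat) 0x0 0x0 (Nat.ble 921 i)) (Bool.rec (motive := fun _ => Nat) 0x0 0x0 (Nat.ble 923 i)) (Nat.ble 922 i)) (Bool.rec (motive := fun _ => Nat) (Bool.rec (motive := fun _ => Nat) 0x0 0x0 (Nat.ble 925 i)) (Bool.rec (motive := fun _ => Nat) 0x0 0x0 (Nat.ble 927 i)) (Nat.ble 926 i)) (Nat.ble 924 i)) (Nat.ble 920 i))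
noncomputable def Inv4L58 (i : Nat) : Nat := (Bool.rec (motive := fun _ => Nat) (Bool.rec (motive := fun _ => Nat) (Bool.rec (motive := fun _ => Nat) (Bool.rec (motive := fun _ => Nat) 0x0 0x0 (Nat.ble 929 i)) (Bool.rec (motive := fun _ => Nat) 0x0 0x0 (Nat.ble 931 i)) (Nat.ble 930 i)) (Bool.rec (motive := fun _ => Nat) (Bool.rec (motive := fun _ => Nat) 0x0 0x0 (Nat.ble 933 i)) (Bool.rec (motive := fun _ => Nat) 0x0 0x0 (Nat.ble 935 i)) (Nat.ble 934 i)) (Nat.ble 932 i)) (Bool.rec (motive := fun _ => Nat) (Bool.rec (motive := fun _ => Nat) (Bool.rec (motive := fun _ => Nat) 0x0 0x0 (Nat.ble 937 i)) (Bool.rec (motive := fun _ => Nat) 0x0 0x0 (Nat.ble 939 i)) (Nat.ble 938 i)) (Bool.rec (motive := fun _ => Nat) (Bool.rec (motive := fun _ => Nat) 0x0 0x0 (Nat.ble 941 i)) (Bool.rec (motive := fun _ => Nat) 0x0 0x0 (Nat.ble 943 i)) (Nat.ble 942 i)) (Nat.ble 940 i)) (Nat.ble 936 i))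
noncomputable def Inv4L59 (i : Nat) : Nat := (Bool.rec (motive := fun _ => Nat) (Bool.rec (motive := fun _ => Nat) (Bool.rec (motive := fun _ => Nat) (Bool.rec (motive := fun _ => Nat) 0x0 0x0 (Nat.ble 945 i)) (Bool.rec (motive := fun _ => Nat) 0x0 0x0 (Nat.ble 947 i)) (Nat.ble 946 i)) (Bool.rec (motive := fun _ => Nat) (Bool.rec (motive := fun _ => Nat) 0x0 0x0 (Nat.ble 949 i)) (Bool.rec (motive := fun _ => Nat) 0x0 0x0 (Nat.ble 951 i)) (Nat.ble 950 i)) (Nat.ble 948 i)) (Bool.rec (motive := fun _ => Nat) (Bool.rec (motive := fun _ => Nat) (Bool.rec (motive := fun _ => Nat) 0x0 0x0 (Nat.ble 953 i)) (Bool.rec (motive := fun _ => Nat) 0x0 0x0 (Nat.ble 955 i)) (Nat.ble 954 i)) (Bool.rec (motive := fun _ => Nat) (Bool.rec (motive := fun _ => Nat) 0x0 0x0 (Nat.ble 957 i)) (Bool.rec (motive := fun _ => Nat) 0x0 0x0 (Nat.ble 959 i)) (Nat.ble 958 i)) (Nat.ble 956 i)) (Nat.ble 952 i))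
noncomputable def Inv4L60 (i : Nat) : Nat := (Bool.rec (motive := fun _ => Nat) (Bool.rec (motive := fun _ => Nat) (Bool.rec (motive := fun _ => Nat) (Bool.rec (motive := fun _ => Nat) 0x0 0x0 (Nat.ble 961 i)) (Bool.rec (motive := fun _ => Nat) 0x0 0x0 (Nat.ble 963 i)) (Nat.ble 962 i)) (Bool.rec (motive := fun _ => Nat) (Bool.rec (motive := fun _ => Nat) 0x0 0x0 (Nat.ble 965 i)) (Bool.rec (motive := fun _ => Nat) 0x0 0x0 (Nat.ble 967 i)) (Nat.ble 966 i)) (Nat.ble 964 i)) (Bool.rec (motive := fun _ => Nat) (Bool.rec (motive := fun _ => Nat) (Bool.rec (motive := fun _ => Nat) 0x0 0x0 (Nat.ble 969 i)) (Bool.rec (motive := fun _ => Nat) 0x0 0x0 (Nat.ble 971 i)) (Nat.ble 970 i)) (Bool.rec (motive := fun _ => Nat) (Bool.rec (motive := fun _ => Nat) 0x0 0x0 (Nat.ble 973 i)) (Bool.rec (motive := fun _ => Nat) 0x0 0x0 (Nat.ble 975 i)) (Nat.ble 974 i)) (Nat.ble 972 i)) (Nat.ble 968 i))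
noncomputable def Inv4L61 (i : Nat) : Nat := (Bool.rec (motive := fun _ => Nat) (Bool.rec (motive := fun _ => Nat) (Bool.rec (motive := fun _ => Nat) 0x0 (Bool.rec (motive := fun _ => Nat) 0x0 0x0 (Nat.ble 978 i)) (Nat.ble 977 i)) (Bool.rec (motive := fun _ => Nat) (Bool.rec (motive := fun _ => Nat) 0x0 0x0 (Nat.ble 980 i)) (Bool.rec (motive := fun _ => Nat) 0x0 0x0 (Nat.ble 982 i)) (Nat.ble 981 i)) (Nat.ble 979 i)) (Bool.rec (motive := fun _ => Nat) (Bool.rec (motive := fun _ => Nat) 0x0 (Bool.rec (motive := fun _ => Nat) 0x0 0x0 (Nat.ble 985 i)) (Nat.ble 984 i)) (Bool.rec (motive := fun _ => Nat) (Bool.rec (motive := fun _ => Nat) 0x0 0x0 (Nat.ble 987 i)) (Bool.rec (motive := fun _ => Nat) 0x0 0x0 (Nat.ble 989 i)) (Nat.ble 988 i)) (Nat.ble 986 i)) (Nat.ble 983 i))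
noncomputable def Inv4T (i : Nat) : Nat := (Bool.rec (motive := fun _ => Nat) (Bool.rec (motive := fun _ => Nat) (Bool.rec (motive := fun _ => Nat) (Bool.rec (motive := fun _ => Nat) (Bool.rec (motive := fun _ => Nat) (Inv4L0 i) (Bool.rec (motive := fun _ => Nat) (Inv4L1 i) (Inv4L2 i) (Nat.ble 32 i)) (Nat.ble 16 i)) (Bool.rec (motive := fun _ => Nat) (Bool.rec (motive := fun _ => Nat) (Inv4L3 i) (Inv4L4 i) (Nat.ble 64 i)) (Bool.rec (motive := fun _ => Nat) (Inv4L5 i) (Inv4L6 i) (Nat.ble 96 i)) (Nat.ble 80 i)) (Nat.ble 48 i)) (Bool.rec (motive := fun _ => Nat) (Bool.rec (motive := fun _ => Nat) (Bool.rec (motive := fun _ => Nat) (Inv4L7 i) (Inv4L8 i) (Nat.ble 128 i)) (Bool.rec (motive := fun _ => Nat) (Inv4L9 i) (Inv4L10 i) (Nat.ble 160 i)) (Nat.ble 144 i)) (Bool.rec (motive := fun _ => Nat) (Bool.rec (motive := fun _ => Nat) (Inv4L11 i) (Inv4L12 i) (Nat.ble 192 i)) (Bool.rec (motive := fun _ => Nat) (Inv4L13 i) (Inv4L14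 i) (Nat.ble 224 i)) (Nat.ble 208 i)) (Nat.ble 176 i)) (Nat.ble 112 i)) (Bool.rec (motive := fun _ => Nat) (Bool.rec (motive := fun _ => Nat) (Bool.rec (motive := fun _ => Nat) (Bool.rec (motive := fun _ => Nat) (Inv4L15 i) (Inv4L16 i) (Nat.ble 256 i)) (Bool.rec (motive := fun _ => Nat) (Inv4L17 i) (Inv4L18 i) (Nat.ble 288 i)) (Nat.ble 272 i)) (Bool.rec (motive := fun _ => Nat) (Bool.rec (motive := fun _ => Nat) (Inv4L19 i) (Inv4L20 i) (Nat.ble 320 i)) (Bool.rec (motive := fun _ => Nat) (Inv4L21 i) (Inv4L22 i) (Nat.ble 352 i)) (Nat.ble 336 i)) (Nat.ble 304 i)) (Bool.rec (motive := fun _ => Nat) (Bool.rec (motive := fun _ => Nat) (Bool.rec (motive := fun _ => Nat) (Inv4L23 i) (Inv4L24 i) (Nat.ble 384 i)) (Bool.rec (motive := fun _ => Nat) (Inv4L25 i) (Inv4L26 i) (Nat.ble 416 i)) (Nat.ble 400 i)) (Bool.rec (motive := fun _ => Nat) (Bool.rec (motive := fun _ => Nat) (Inv4L27 i) (Inv4L28 i) (Nat.ble 448 i)) (Bool.rec (motive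 := fun _ => Nat) (Inv4L29 i) (Inv4L30 i) (Nat.ble 480 i)) (Nat.ble 464 i)) (Nat.ble 432 i)) (Nat.ble 368 i)) (Nat.ble 240 i)) (Bool.rec (motive := fun _ => Nat) (Bool.rec (motive := fun _ => Nat) (Bool.rec (motive := fun _ => Nat) (Bool.rec (motive := fun _ => Nat) (Inv4L31 i) (Bool.rec (motive := fun _ => Nat) (Inv4L32 i) (Inv4L33 i) (Nat.ble 528 i)) (Nat.ble 512 i)) (Bool.rec (motive := fun _ => Nat) (Bool.rec (motive := fun _ => Nat) (Inv4L34 i) (Inv4L35 i) (Nat.ble 560 i)) (Bool.rec (motive := fun _ => Nat) (Inv4L36 i) (Inv4L37 i) (Nat.ble 592 i)) (Nat.ble 576 i)) (Nat.ble 544 i)) (Bool.rec (motive := fun _ => Nat) (Bool.rec (motive := fun _ => Nat) (Bool.rec (motive := fun _ => Nat) (Inv4L38 i) (Inv4L39 i) (Nat.ble 624 i)) (Bool.rec (motive := fun _ => Nat) (Inv4L40 i) (Inv4L41 i) (Nat.ble 656 i)) (Nat.ble 640 i)) (Bool.rec (motive := fun _ => Nat) (Bool.rec (motive := fun _ => Nat) (Inv4L42 i) (Inv4L43 i) (Nat.ble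 688 i)) (Bool.rec (motive := fun _ => Nat) (Inv4L44 i) (Inv4L45 i) (Nat.ble 720 i)) (Nat.ble 704 i)) (Nat.ble 672 i)) (Nat.ble 608 i)) (Bool.rec (motive := fun _ => Nat) (Bool.rec (motive := fun _ => Nat) (Bool.rec (motive := fun _ => Nat) (Bool.rec (motive := fun _ => Nat) (Inv4L46 i) (Inv4L47 i) (Nat.ble 752 i)) (Bool.rec (motive := fun _ => Nat) (Inv4L48 i) (Inv4L49 i) (Nat.ble 784 i)) (Nat.ble 768 i)) (Bool.rec (motive := fun _ => Nat) (Bool.rec (motive := fun _ => Nat) (Inv4L50 i) (Inv4L51 i) (Nat.ble 816 i)) (Bool.rec (motive := fun _ => Nat) (Inv4L52 i) (Inv4L53 i) (Nat.ble 848 i)) (Nat.ble 832 i)) (Nat.ble 800 i)) (Bool.rec (motive := fun _ => Nat) (Bool.rec (motive := fun _ => Nat) (Bool.rec (motive := fun _ => Nat) (Inv4L54 i) (Inv4L55 i) (Nat.ble 880 i)) (Bool.rec (motive := fun _ => Nat) (Inv4L56 i) (Inv4L57 i) (Nat.ble 912 i)) (Nat.ble 896 i)) (Bool.rec (motive := fun _ => Nat) (Bool.rec (motive := fun _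 => Nat) (Inv4L58 i) (Inv4L59 i) (Nat.ble 944 i)) (Bool.rec (motive := fun _ => Nat) (Inv4L60 i) (Inv4L61 i) (Nat.ble 976 i)) (Nat.ble 960 i)) (Nat.ble 928 i)) (Nat.ble 864 i)) (Nat.ble 736 i)) (Nat.ble 496 i))
noncomputable def Inv4 (i : Nat) : Nat := Nat.shiftRight (Inv4T (Nat.shiftRight i 5)) (Nat.mul 24 (Nat.land i 31))

end CfsgLib.Coset.Fi23Out
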